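import Groth.Prelude.Def_DualGr
import Mathlib.LinearAlgebra.Matrix.ToLin
import Mathlib.LinearAlgebra.Dimension.RankNullity
import Mathlib.LinearAlgebra.FiniteDimensional.Lemmas
import Mathlib.Data.ZMod.Basic
import Mathlib.Algebra.Field.ZMod

/-! Finite multigraphs: connectedness, circuits and trees through the incidence matrix. -/

noncomputable section

open Finset

namespace TreeLib

universe u

variable {V E : Type u} [Fintype V] [Fintype E] [DecidableEq V] [DecidableEq E] (ends : E → V × V)

/-- The incidence matrix: head minus tail. -/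
def inc (R : Type*) [CommRing R] : Matrix V E R := fun v e =>
  (if (ends e).2 = v then 1 else 0) - (if (ends e).1 = v then 1 else 0)

omit [Fintype V] [DecidableEq E] in
lemma inc_mulVec_single {R : Type*} [CommRing R] (e : E) [DecidableEq E] :
    (inc ends R).mulVec (Pi.single e 1) = Pi.single (ends e).2 1 - Pi.single (ends e).1 1 := by
  ext v
  rw [Matrix.mulVec_single_one]
  simp [inc, Pi.single_apply, eq_comm]

omit [Fintype V] [DecidableEq E] [Fintype E] [DecidableEq V] in
lemma adj_symm {v w : V} (h : LabGraph.Adj ends v w) : LabGraph.Adj ends w v := by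
  obtain ⟨e, he⟩ := h
  exact ⟨e, he.symm⟩

omit [DecidableEq E] in
/-- Either connected, or some proper vertex set is crossed by no edge. -/
lemma connected_or_cut [Nonempty V] (r : V) : LabGraph.Connected ends ∨
    ∃ S : Finset V, r ∉ S ∧ S.Nonempty ∧ ∀ e, ((ends e).1 ∈ S ↔ (ends e).2 ∈ S) := by
  classical
  refine or_iff_not_imp_left.2 fun hn => ?_
  let A : Finset V := univ.filter fun w => Relation.ReflTransGen (LabGraph.Adj ends) r w
  refine ⟨Aᶜ, by simp [A, Relation.ReflTransGen.refl], ?_, fun e => ?_⟩
  · rw [Finset.nonempty_iff_ne_empty]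
    intro h
    have hall : ∀ w, Relation.ReflTransGen (LabGraph.Adj ends) r w := fun w => by
      have : w ∈ A := by
        by_contra hw
        have : w ∈ Aᶜ := Finset.mem_compl.2 hw
        rw [h] at this
        exact absurd this (Finset.notMem_empty w)
      simpa [A] using this
    refine hn ⟨⟨r⟩, fun v w => Relation.ReflTransGen.trans ?_ (hall w)⟩
    have := hall v
    induction this with
    | refl => exact Relation.ReflTransGen.refl
    | tail _ hab ih => exact Relation.ReflTransGen.head (adj_symm ends hab) ih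
  · have h1 : LabGraph.Adj ends (ends e).1 (ends e).2 := ⟨e, Or.inl rfl⟩
    simp only [A, Finset.mem_compl, Finset.mem_filter, Finset.mem_univ, true_and]
    exact not_congr ⟨fun h => h.tail h1, fun h => h.tail (adj_symm ends h1)⟩

/-- In a connected graph the difference of two vertices is a boundary. -/
lemma exists_mulVec_eq (hG : LabGraph.Connected ends) (R : Type*) [CommRing R] (v r : V) :
    ∃ γ : E → R, (inc ends R).mulVec γ = Pi.single v 1 - Pi.single r 1 := by
  induction hG.2 r v with
  | refl => exact ⟨0, by simp⟩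
  | @tail a c _ hac ih =>
    obtain ⟨γ, hγ⟩ := ih
    obtain ⟨e, he | he⟩ := hac
    · refine ⟨γ + Pi.single e 1, ?_⟩
      rw [Matrix.mulVec_add, hγ, inc_mulVec_single, he]
      abel
    · refine ⟨γ - Pi.single e 1, ?_⟩
      rw [Matrix.mulVec_sub, hγ, inc_mulVec_single, he]
      abel

omit [DecidableEq E] in
lemma sum_inc {R : Type*} [CommRing R] (S : Finset V) (e : E) :
    ∑ v ∈ S, inc ends R v e =
      (if (ends e).2 ∈ S then 1 else 0) - (if (ends e).1 ∈ S then 1 else 0) := by
  simp [inc, Finset.sum_sub_distrib]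

omit [DecidableEq E] in
lemma sum_mulVec {R : Type*} [CommRing R] (S : Finset V)
    (hS : ∀ e, ((ends e).1 ∈ S ↔ (ends e).2 ∈ S)) (γ : E → R) :
    ∑ v ∈ S, (inc ends R).mulVec γ v = 0 := by
  simp only [Matrix.mulVec, dotProduct]
  rw [Finset.sum_comm]
  refine Finset.sum_eq_zero fun e _ => ?_
  rw [← Finset.sum_mul, sum_inc, if_congr (hS e) rfl rfl, sub_self, zero_mul]

/-- The indicator of an edge set modulo two. -/
def ind (C : Finset E) : E → ZMod 2 := fun e => if e ∈ C then 1 else 0

omit [Fintype V] in
lemma inc_mulVec_ind (C : Finset E) (v : V) :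
    (inc ends (ZMod 2)).mulVec (ind C) v = (LabGraph.endCount ends C v : ZMod 2) := by
  simp only [Matrix.mulVec, dotProduct, ind, LabGraph.endCount, mul_ite, mul_one, mul_zero,
    Finset.sum_ite_mem, Finset.univ_inter, Nat.cast_sum, Nat.cast_add, Nat.cast_ite, Nat.cast_one,
    Nat.cast_zero]
  refine Finset.sum_congr rfl fun e _ => ?_
  rw [inc, CharTwo.sub_eq_add, add_comm]

omit [Fintype V] in
lemma even_iff_mulVec (C : Finset E) :
    (∀ v, Even (LabGraph.endCount ends C v)) ↔ (inc ends (ZMod 2)).mulVec (ind C) = 0 := by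
  rw [funext_iff]
  refine forall_congr' fun v => ?_
  rw [inc_mulVec_ind, Pi.zero_apply, ZMod.natCast_eq_zero_iff_even]

omit [Fintype V] [DecidableEq E] [Fintype E] in
/-- A nonempty even edge set contains a circuit. -/
lemma exists_circuit [DecidableEq E] (C : Finset E) (hne : C.Nonempty)
    (he : ∀ v, Even (LabGraph.endCount ends C v)) : ∃ C' ⊆ C, LabGraph.IsCircuit ends C' := by
  induction C using Finset.strongInductionOn with
  | _ C ih =>
    by_cases h : ∀ C' : Finset E, C' ⊂ C → C'.Nonempty → ∃ v, ¬ Even (LabGraph.endCount ends C' v)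
    · exact ⟨C, subset_refl _, hne, he, h⟩
    · push Not at h
      obtain ⟨C', h1, h2, h3⟩ := h
      obtain ⟨D, hD, hD'⟩ := ih C' h1 h2 h3
      exact ⟨D, hD.trans h1.subset, hD'⟩

omit [Fintype V] in
lemma isForest_iff_injective :
    DualGr.IsForest ends ↔ Function.Injective (inc ends (ZMod 2)).mulVecLin := by
  constructor
  · intro h
    refine (injective_iff_map_eq_zero _).2 fun γ hγ => ?_
    by_contra hne
    let C : Finset E := univ.filter fun e => γ e ≠ 0
    have hC : ind C = γ := by
      ext e
      have h2 : ∀ a : ZMod 2, a ≠ 0 → a = 1 := by decide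
      by_cases he : γ e = 0
      · simp [ind, C, he]
      · simp [ind, C, he, h2 _ he]
    obtain ⟨e, he⟩ := Function.ne_iff.1 hne
    obtain ⟨C', -, hC'⟩ := exists_circuit ends C ⟨e, by simpa [C] using he⟩
      ((even_iff_mulVec ends C).2 (hC.symm ▸ hγ))
    exact h C' hC'
  · intro h C hC
    have h1 := h (((even_iff_mulVec ends C).1 hC.2.1).trans (map_zero _).symm)
    obtain ⟨e, he⟩ := hC.1
    have := congrFun h1 e
    simp [ind, he] at this

lemma finrank_range_inc (hG : LabGraph.Connected ends) :
    Module.finrank (ZMod 2) (LinearMap.range (inc ends (ZMod 2)).mulVecLin) + 1 = Fintype.card V := by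
  classical
  obtain ⟨r⟩ := hG.1
  let σ : (V → ZMod 2) →ₗ[ZMod 2] ZMod 2 := ∑ v, LinearMap.proj v
  have hσ : ∀ x, σ x = ∑ v, x v := fun x => by simp [σ]
  have hsurj : LinearMap.range σ = ⊤ := by
    rw [LinearMap.range_eq_top]
    intro a
    exact ⟨Pi.single r a, by simp [hσ]⟩
  have heq : LinearMap.range (inc ends (ZMod 2)).mulVecLin = LinearMap.ker σ := by
    refine le_antisymm ?_ fun x hx => ?_
    · rintro _ ⟨γ, rfl⟩
      rw [LinearMap.mem_ker, hσ]
      exact sum_mulVec ends univ (fun e => by simp) γ
    · rw [LinearMap.mem_ker, hσ] at hx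
      have hdec : x = ∑ v, x v • ((Pi.single v 1 : V → ZMod 2) - Pi.single r 1) := by
        ext w
        simp [Finset.sum_apply, Pi.single_apply, mul_sub, Finset.sum_sub_distrib, ← Finset.sum_mul, hx]
      rw [hdec]
      refine Submodule.sum_mem _ fun v _ => Submodule.smul_mem _ _ ?_
      obtain ⟨γ, hγ⟩ := exists_mulVec_eq ends hG (ZMod 2) v r
      exact ⟨γ, hγ⟩
  have := σ.finrank_range_add_finrank_ker
  rw [hsurj, finrank_top, Module.finrank_self, Module.finrank_pi] at this
  rw [heq]
  omega

/-- A connected graph is a tree exactly when it has one edge less than vertices. -/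
lemma isForest_iff_card (hG : LabGraph.Connected ends) :
    DualGr.IsForest ends ↔ Fintype.card E + 1 = Fintype.card V := by
  rw [isForest_iff_injective]
  have h1 := finrank_range_inc ends hG
  have h2 := (inc ends (ZMod 2)).mulVecLin.finrank_range_add_finrank_ker
  rw [Module.finrank_pi] at h2
  rw [← LinearMap.ker_eq_bot, ← Submodule.finrank_eq_zero]
  omega

lemma card_le_of_connected (hG : LabGraph.Connected ends) :
    Fintype.card V ≤ Fintype.card E + 1 := by
  have h1 := finrank_range_inc ends hG
  have h2 := (inc ends (ZMod 2)).mulVecLin.finrank_range_add_finrank_ker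
  rw [Module.finrank_pi] at h2
  omega

omit [Fintype V] in
/-- The subgraph on an edge set. -/
abbrev sub (T : Finset E) : T → V × V := fun e => ends e.1

lemma isSpanningTree_iff (T : Finset E) :
    DualGr.IsTree (V := V) (sub ends T) ↔
      LabGraph.Connected (sub ends T) ∧ T.card + 1 = Fintype.card V := by
  refine ⟨fun h => ⟨h.1, ?_⟩, fun h => ⟨h.1, (isForest_iff_card _ h.1).2 (by simpa using h.2)⟩⟩
  simpa using (isForest_iff_card _ h.1).1 h.2

omit [Fintype V] in
lemma endCount_sub (T : Finset E) (C : Finset T) (v : V) :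
    LabGraph.endCount (sub ends T) C v =
      LabGraph.endCount ends (C.map (Function.Embedding.subtype _)) v := by
  simp [LabGraph.endCount, Finset.sum_map, sub]
  rfl

/-- An edge on a circuit can be removed without disconnecting. -/
lemma connected_erase (T : Finset E) (hT : LabGraph.Connected (sub ends T)) (C : Finset E)
    (hCT : C ⊆ T) (hC : ∀ v, Even (LabGraph.endCount ends C v)) (e₀ : E) (he₀ : e₀ ∈ C) :
    LabGraph.Connected (sub ends (T.erase e₀)) := by
  have := hT.1
  rcases connected_or_cut (sub ends (T.erase e₀)) (ends e₀).1 with h | ⟨S, hrS, hne, hcut⟩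
  · exact h
  exfalso
  have hcutT : ∀ e ∈ T, e ≠ e₀ → ((ends e).1 ∈ S ↔ (ends e).2 ∈ S) := fun e he hne' =>
    hcut ⟨e, Finset.mem_erase.2 ⟨hne', he⟩⟩
  -- the set `S` cannot contain the other end, by parity
  have h2 : (ends e₀).2 ∉ S := by
    intro h2
    have hpar : ∑ v ∈ S, (inc ends (ZMod 2)).mulVec (ind C) v = 0 := by
      rw [(even_iff_mulVec ends C).1 hC]; simp
    simp only [Matrix.mulVec, dotProduct, ind, mul_ite, mul_one, mul_zero, Finset.sum_ite_mem,
      Finset.univ_inter] at hpar
    replace hpar : ∑ e ∈ C, ∑ v ∈ S, inc ends (ZMod 2) v e = 0 := Finset.sum_comm.trans hpar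
    rw [← Finset.add_sum_erase _ _ he₀, Finset.sum_eq_zero (s := C.erase e₀),
      add_zero, sum_inc, if_pos h2, if_neg hrS, sub_zero] at hpar
    · exact one_ne_zero hpar
    · intro e he
      rw [Finset.mem_erase] at he
      rw [sum_inc, if_congr (hcutT e (hCT he.2) he.1) rfl rfl, sub_self]
  -- so `S` is cut off in `T`
  obtain ⟨s, hs⟩ := hne
  have hclosed : ∀ a b, LabGraph.Adj (sub ends T) a b → a ∈ S → b ∈ S := by
    rintro a b ⟨⟨e, heT⟩, he⟩ ha
    by_cases hne' : e = e₀
    · exfalso
      subst hne'
      rcases he with he | he <;>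
        (simp only [sub] at he; rw [he] at hrS h2; simp_all)
    · have := hcutT e heT hne'
      rcases he with he | he <;> (simp only [sub] at he; rw [he] at this; simp_all)
  have : ∀ w, Relation.ReflTransGen (LabGraph.Adj (sub ends T)) s w → w ∈ S := by
    intro w hw
    induction hw with
    | refl => exact hs
    | tail _ hab ih => exact hclosed _ _ hab ih
  exact hrS (this _ (hT.2 s _))

/-- Every connected edge set contains a spanning tree. -/
lemma exists_spanningTree (T : Finset E) (hT : LabGraph.Connected (sub ends T)) :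
    ∃ T' ⊆ T, DualGr.IsTree (V := V) (sub ends T') := by
  induction T using Finset.strongInductionOn with
  | _ T ih =>
    by_cases hf : DualGr.IsForest (sub ends T)
    · exact ⟨T, subset_refl _, hT, hf⟩
    · simp only [DualGr.IsForest, not_forall, not_not] at hf
      obtain ⟨C, hC⟩ := hf
      obtain ⟨⟨e₀, he₀T⟩, he₀⟩ := hC.1
      have h := connected_erase ends T hT (C.map (Function.Embedding.subtype _))
        (fun x hx => by
          obtain ⟨y, -, rfl⟩ := Finset.mem_map.1 hx
          exact y.2)
        (fun v => (endCount_sub ends T C v) ▸ hC.2.1 v) e₀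
        (Finset.mem_map.2 ⟨⟨e₀, he₀T⟩, he₀, rfl⟩)
      obtain ⟨T', h1, h2⟩ := ih _ (Finset.erase_ssubset he₀T) h
      exact ⟨T', h1.trans (Finset.erase_subset _ _), h2⟩

lemma connected_univ (hG : LabGraph.Connected ends) :
    LabGraph.Connected (sub ends (univ : Finset E)) :=
  ⟨hG.1, fun v w => by
    induction hG.2 v w with
    | refl => exact Relation.ReflTransGen.refl
    | tail _ h ih =>
      obtain ⟨e, he⟩ := h
      exact ih.tail ⟨⟨e, Finset.mem_univ e⟩, he⟩⟩

end TreeLib
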