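import Groth.Agent.TreeLib.Chain

/-! The component group and the contraction of a chain. -/

noncomputable section

open Finset Matrix

namespace TreeLib

universe u

variable {V E : Type u} [Fintype V] [Fintype E] [DecidableEq V] [DecidableEq E] {ends : E → V × V}
  {β : V → ℤ}

omit [DecidableEq E] in
lemma ctrFn_apply {k : ℕ} {f : Fin (k + 1) → V} {e : Fin k → E} [DecidableEq E]
    (hC : LabGraph.IsChain ends f e) (hconst : ∀ i j, β (f i) = β (f j)) (a : V) :
    LabGraph.ctrFn ends (univ.image e) β (DualGr.ctrMk ends (univ.image e) a) = β a := by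
  have h : DualGr.ctrMk ends (univ.image e)
      (Quotient.out (s := DualGr.ctrSetoid ends (univ.image e)) (DualGr.ctrMk ends (univ.image e) a)) =
      DualGr.ctrMk ends (univ.image e) a :=
    Quotient.out_eq (s := DualGr.ctrSetoid ends (univ.image e)) _
  rcases (ctrMk_eq_iff hC _ _).1 h with h' | ⟨h1, h2⟩
  · exact congrArg β h'
  · obtain ⟨i, -, hi⟩ := Finset.mem_image.1 h1
    obtain ⟨j, -, hj⟩ := Finset.mem_image.1 h2
    show β _ = β a
    rw [← hi, ← hj]
    exact hconst i j

/-- A multiplicity function is carried to the contraction of a chain. -/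
theorem isMultFn_ctr {k : ℕ} {f : Fin (k + 1) → V} {e : Fin k → E}
    (hβ : LabGraph.IsMultFn ends β) (hC : LabGraph.IsChain ends f e)
    (hconst : ∀ i j, β (f i) = β (f j)) :
    LabGraph.IsMultFn (DualGr.ctrEnds ends (univ.image e)) (LabGraph.ctrFn ends (univ.image e) β) := by
  classical
  intro c
  obtain ⟨a₀, rfl⟩ := DualGr.ctrMk_surjective ends (univ.image e) c
  rw [ctrFn_apply hC hconst]
  refine ⟨(hβ a₀).1, ?_⟩
  rw [sum_edgeMult_ctr]
  simp only [ctrFn_apply hC hconst]
  refine Finset.dvd_sum fun a ha => ?_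
  rw [Finset.mem_filter] at ha
  have hval : ∀ x, DualGr.ctrMk ends (univ.image e) x = DualGr.ctrMk ends (univ.image e) a₀ → β x = β a₀ := by
    intro x hx
    rw [← ctrFn_apply hC hconst x, hx, ctrFn_apply hC hconst]
  have hsplit := Finset.sum_filter_add_sum_filter_not (univ.erase a)
    (fun b => DualGr.ctrMk ends (univ.image e) b ≠ DualGr.ctrMk ends (univ.image e) a₀)
    (fun b => β b * (LabGraph.edgeMult ends a b : ℤ))
  rw [show (univ.erase a).filter (fun b => DualGr.ctrMk ends (univ.image e) b ≠
      DualGr.ctrMk ends (univ.image e) a₀) = univ.filter (fun b => DualGr.ctrMk ends (univ.image e) b ≠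
      DualGr.ctrMk ends (univ.image e) a₀) from by
    ext b; simp only [Finset.mem_filter, Finset.mem_erase, Finset.mem_univ, true_and, and_true]
    exact ⟨fun h => h.2, fun h => ⟨fun hb => h (hb ▸ ha.2), h⟩⟩] at hsplit
  have h2 := (hβ a).2
  rw [hval a ha.2, ← hsplit] at h2
  refine (dvd_add_left (Finset.dvd_sum fun b hb => ?_)).1 h2
  rw [hval b (not_not.1 (Finset.mem_filter.1 hb).2)]
  exact Dvd.intro _ rfl

/-- The hypotheses of the contraction of a chain of `(-2)`-vertices of multiplicity equal to its length. -/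
structure TwoChain (ends : E → V × V) (β : V → ℤ) (m : ℕ) (f : Fin (m + 1) → V) (e : Fin m → E) :
    Prop where
  mult : LabGraph.IsMultFn ends β
  chain : LabGraph.IsChain ends f e
  conn : ∀ i, LabGraph.IsConnecting ends (e i)
  val : ∀ i, β (f i) = m
  diag : ∀ i, LabGraph.mfMatrix ends β (f i) (f i) = -2

namespace TwoChain

variable {m : ℕ} {f : Fin (m + 1) → V} {e : Fin m → E} (H : TwoChain ends β m f e)

local notation "α" => LabGraph.mfMatrix ends β
local notation "pr" => DualGr.ctrMk ends (univ.image e)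

include H

lemma pos : 0 < m := by
  have h := (H.mult (f 0)).1
  rw [H.val] at h
  exact_mod_cast h

lemma const (i j : Fin (m + 1)) : β (f i) = β (f j) := by rw [H.val, H.val]

/-- The entries of the matrix along the chain. -/
lemma entry (i j : Fin (m + 1)) : α (f i) (f j) = (-2) * (if j = i then 1 else 0) +
    (if j.val + 1 = i.val then 1 else 0) + (if i.val + 1 = j.val then 1 else 0) := by
  rcases lt_trichotomy i.val j.val with h | h | h
  · rw [LabGraph.mfMatrix, if_neg (fun h' => by have := congrArg Fin.val (H.chain.1 h'); omega),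
      edgeMult_chain H.chain H.conn i j h, if_neg (Fin.ne_of_val_ne (by omega)),
      if_neg (show ¬ (j.val + 1 = i.val) by omega)]
    by_cases h1 : j.val = i.val + 1
    · rw [if_pos h1, if_pos h1.symm]; simp
    · rw [if_neg h1, if_neg (fun h' => h1 h'.symm)]; simp
  · obtain rfl : i = j := Fin.ext h
    rw [H.diag]; simp
  · rw [LabGraph.mfMatrix, if_neg (fun h' => by have := congrArg Fin.val (H.chain.1 h'); omega),
      edgeMult_comm, edgeMult_chain H.chain H.conn j i h, if_neg (Fin.ne_of_val_ne (by omega)),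
      if_neg (show ¬ (i.val + 1 = j.val) by omega)]
    by_cases h1 : i.val = j.val + 1
    · rw [if_pos h1, if_pos h1.symm]; simp
    · rw [if_neg h1, if_neg (fun h' => h1 h'.symm)]; simp

/-- The sum over the neighbours outside the chain. -/
def outSum (_H : TwoChain ends β m f e) (i : Fin (m + 1)) (g : V → ℤ) : ℤ :=
  ∑ b ∈ univ.filter (fun b => ¬ onChain f b), (LabGraph.edgeMult ends (f i) b : ℤ) * g b

/-- The row of the matrix at a vertex of the chain. -/
lemma row (i : Fin (m + 1)) (g : V → ℤ) :
    (α).mulVec g (f i) = H.outSum i g - 2 * g (f i) +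
      (if h : 0 < i.val then g (f ⟨i.val - 1, by omega⟩) else 0) +
      (if h : i.val < m then g (f ⟨i.val + 1, by omega⟩) else 0) := by
  classical
  rw [Matrix.mulVec, dotProduct, ← Finset.sum_filter_add_sum_filter_not univ (fun b => ¬ onChain f b)]
  have h1 : ∑ b ∈ univ.filter (fun b => ¬ onChain f b), α (f i) b * g b = H.outSum i g := by
    refine Finset.sum_congr rfl fun b hb => ?_
    rw [LabGraph.mfMatrix, if_neg]
    exact fun h => (Finset.mem_filter.1 hb).2 (h ▸ Finset.mem_image_of_mem f (Finset.mem_univ i))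
  have h2 : univ.filter (fun b => ¬ ¬ onChain f b) = univ.image f := by
    ext b; simp [onChain]
  rw [h1, h2, Finset.sum_image (fun a _ b _ h => H.chain.1 h)]
  simp only [H.entry, add_mul, mul_assoc, ite_mul, one_mul, zero_mul, Finset.sum_add_distrib,
    ← Finset.mul_sum, Finset.sum_ite_eq', Finset.mem_univ, if_true]
  have h3 : (∑ j : Fin (m + 1), if j.val + 1 = i.val then g (f j) else 0) =
      if h : 0 < i.val then g (f ⟨i.val - 1, by omega⟩) else 0 := by
    split_ifs with h
    · rw [Finset.sum_eq_single ⟨i.val - 1, by omega⟩]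
      · rw [if_pos (by simp; omega)]
      · intro j _ hj
        exact if_neg fun h' => hj (Fin.ext (by simp; omega))
      · simp
    · exact Finset.sum_eq_zero fun j _ => if_neg (by omega)
  have h4 : (∑ j : Fin (m + 1), if i.val + 1 = j.val then g (f j) else 0) =
      if h : i.val < m then g (f ⟨i.val + 1, by omega⟩) else 0 := by
    split_ifs with h
    · rw [Finset.sum_eq_single ⟨i.val + 1, by omega⟩]
      · rw [if_pos rfl]
      · intro j _ hj
        exact if_neg fun h' => hj (Fin.ext h'.symm)
      · simp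
    · exact Finset.sum_eq_zero fun j _ => if_neg (by omega)
  rw [h3, h4]
  ring

lemma outSum_beta (i : Fin (m + 1)) :
    H.outSum i β = if 0 < i.val ∧ i.val < m then 0 else (m : ℤ) := by
  have h := H.row i β
  rw [mulVec_beta ends β H.mult, Pi.zero_apply, H.val] at h
  simp only [H.val, dite_eq_ite] at h
  have := H.pos
  split_ifs at h ⊢ <;> omega

/-- Interior vertices of the chain have no neighbour outside. -/
lemma interior {i : Fin (m + 1)} (h : 0 < i.val) (h' : i.val < m) {b : V} (hb : ¬ onChain f b) :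
    LabGraph.edgeMult ends (f i) b = 0 := by
  have h0 := H.outSum_beta i
  rw [if_pos ⟨h, h'⟩] at h0
  have := (Finset.sum_eq_zero_iff_of_nonneg fun x _ =>
    mul_nonneg (Int.natCast_nonneg (LabGraph.edgeMult ends (f i) x)) (H.mult x).1.le).1 h0 b
    (Finset.mem_filter.2 ⟨Finset.mem_univ _, hb⟩)
  exact_mod_cast (mul_eq_zero.1 this).resolve_right (H.mult b).1.ne'

lemma outSum_interior {i : Fin (m + 1)} (h : 0 < i.val) (h' : i.val < m) (g : V → ℤ) :
    H.outSum i g = 0 :=
  Finset.sum_eq_zero fun b hb => by rw [H.interior h h' (Finset.mem_filter.1 hb).2]; simp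

lemma exists_cut : ∃ T : Finset V, (∀ j : Fin (m + 1), f j ∈ T ↔ j.val = m) ∧
    ∀ a b, LabGraph.edgeMult ends a b ≠ 0 → ¬ (a ∈ T ↔ b ∈ T) → onChain f a ∧ onChain f b := by
  have hm := H.pos
  obtain ⟨T, hT, hT'⟩ := exists_side H.chain H.conn ⟨m - 1, by omega⟩
  refine ⟨T, fun j => by rw [hT]; simp; omega, fun a b hab hne => ?_⟩
  obtain ⟨e', he'⟩ := Finset.card_ne_zero.1 hab
  simp only [Finset.mem_filter, Finset.mem_univ, true_and] at he'
  rcases hT' e' with h | h
  · exfalso
    rcases he' with he' | he' <;> rw [he'] at h <;> tauto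
  · subst h
    have key : ∀ x y, ends (e ⟨m - 1, by omega⟩) = (x, y) → onChain f x ∧ onChain f y := by
      intro x y hxy
      rcases edge_ends H.chain _ hxy with ⟨rfl, rfl⟩ | ⟨rfl, rfl⟩ <;>
        exact ⟨Finset.mem_image_of_mem f (Finset.mem_univ _), Finset.mem_image_of_mem f (Finset.mem_univ _)⟩
    rcases he' with he' | he'
    · exact key _ _ he'
    · exact (key _ _ he').symm

/-- The first minus the last vertex of the chain is in the image of the matrix. -/
lemma exists_ramp : ∃ r : V → ℤ, (∀ j : Fin (m + 1), r (f j) = j.val) ∧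
    (α).mulVec r = Pi.single (f 0) 1 - Pi.single (f (Fin.last m)) 1 := by
  classical
  obtain ⟨T, hT, hT'⟩ := H.exists_cut
  have hm := H.pos
  let r : V → ℤ := fun b => if h : ∃ j, f j = b then (h.choose.val : ℤ) else if b ∈ T then β b else 0
  have hrf : ∀ j, r (f j) = j.val := by
    intro j
    have h : ∃ i, f i = f j := ⟨j, rfl⟩
    simp only [r, dif_pos h]
    rw [H.chain.1 h.choose_spec]
  have hro : ∀ b, ¬ onChain f b → r b = if b ∈ T then β b else 0 := by
    intro b hb
    simp only [r]
    rw [dif_neg]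
    exact fun ⟨j, hj⟩ => hb (hj ▸ Finset.mem_image_of_mem f (Finset.mem_univ j))
  have houtT : ∀ i : Fin (m + 1), H.outSum i r = if i.val = m then H.outSum i β else 0 := by
    intro i
    have hrb : ∀ b, ¬ onChain f b → LabGraph.edgeMult ends (f i) b ≠ 0 →
        r b = if i.val = m then β b else 0 := by
      intro b hb hne
      have h : f i ∈ T ↔ b ∈ T := by
        by_contra h; exact hb (hT' _ _ hne h).2
      rw [hro b hb]
      exact if_congr (h.symm.trans (hT i)) rfl rfl
    split_ifs with hi
    · refine Finset.sum_congr rfl fun b hb => ?_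
      by_cases hne : LabGraph.edgeMult ends (f i) b = 0
      · simp [hne]
      · rw [hrb b (Finset.mem_filter.1 hb).2 hne, if_pos hi]
    · refine Finset.sum_eq_zero fun b hb => ?_
      by_cases hne : LabGraph.edgeMult ends (f i) b = 0
      · simp [hne]
      · rw [hrb b (Finset.mem_filter.1 hb).2 hne, if_neg hi, mul_zero]
  refine ⟨r, hrf, funext fun a => ?_⟩
  by_cases ha : ∃ i, f i = a
  · obtain ⟨i, rfl⟩ := ha
    rw [H.row, houtT, H.outSum_beta, Pi.sub_apply, Pi.single_apply, Pi.single_apply]
    simp only [hrf, H.chain.1.eq_iff, Fin.ext_iff, Fin.val_last, Fin.val_zero]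
    rcases Nat.eq_zero_or_pos i.val with h0 | h0
    · simp [h0, hm, hm.ne, hm.ne']
    · rcases Nat.lt_or_ge i.val m with h1 | h1
      · simp [h0, h1, h0.ne', h1.ne]
        omega
      · have h2 : i.val = m := by omega
        simp [h0, h2, hm.ne', hm]
        omega
  · have hne : ∀ i, a ≠ f i := fun i h => ha ⟨i, h.symm⟩
    have hac : ¬ onChain f a := fun h => by
      obtain ⟨i, -, hi⟩ := Finset.mem_image.1 h
      exact hne i hi.symm
    rw [Pi.sub_apply, Pi.single_eq_of_ne (hne 0), Pi.single_eq_of_ne (hne _), sub_zero]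
    -- near `a` the ramp is `0` or `β`
    have hr : ∀ b, α a b ≠ 0 → r b = if a ∈ T then β b else 0 := by
      intro b hb
      by_cases hab : a = b
      · subst hab; exact hro a hac
      rw [LabGraph.mfMatrix, if_neg hab, Nat.cast_ne_zero] at hb
      have hiff : a ∈ T ↔ b ∈ T := by by_contra h; exact hac (hT' _ _ hb h).1
      by_cases hb' : onChain f b
      · obtain ⟨j, -, rfl⟩ := Finset.mem_image.1 hb'
        rw [hrf, H.val]
        by_cases hj : j.val = m
        · rw [if_pos (hiff.2 ((hT j).2 hj)), hj]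
        · rw [if_neg (fun h => hj ((hT j).1 (hiff.1 h)))]
          by_contra h0
          have h0' : 0 < j.val := Nat.pos_of_ne_zero fun h => h0 (by simp [h])
          exact hb ((edgeMult_comm ends a (f j)).trans (H.interior h0' (by omega) hac))
      · rw [hro b hb']
        exact if_congr hiff.symm rfl rfl
    have h2 : ∀ b, α a b * r b = α a b * (if a ∈ T then β b else 0) := by
      intro b
      by_cases h : α a b = 0
      · simp [h]
      · rw [hr b h]
    rw [Matrix.mulVec, dotProduct, Finset.sum_congr rfl fun b _ => h2 b]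
    split_ifs
    · exact congrFun (mulVec_beta ends β H.mult) a
    · simp

omit H in
/-- The matrix of the contraction. -/
abbrev ctrMat (ends : E → V × V) (β : V → ℤ) (e : Fin m → E) :
    Matrix (DualGr.CtrVert ends (univ.image e)) (DualGr.CtrVert ends (univ.image e)) ℤ :=
  LabGraph.mfMatrix (DualGr.ctrEnds ends (univ.image e)) (LabGraph.ctrFn ends (univ.image e) β)

lemma isMult : LabGraph.IsMultFn (DualGr.ctrEnds ends (univ.image e))
    (LabGraph.ctrFn ends (univ.image e) β) := isMultFn_ctr H.mult H.chain H.const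

lemma filter_pr_off {a : V} (ha : ¬ onChain f a) :
    univ.filter (fun b => pr b = pr a) = {a} := by
  ext b
  simp only [Finset.mem_filter, Finset.mem_univ, true_and, Finset.mem_singleton, ctrMk_eq_iff H.chain]
  tauto

lemma filter_pr_chain : univ.filter (fun b => pr b = pr (f 0)) = univ.image f := by
  ext b
  simp only [Finset.mem_filter, Finset.mem_univ, true_and, ctrMk_eq_iff H.chain]
  exact ⟨fun h => h.elim (fun h => h ▸ Finset.mem_image_of_mem f (Finset.mem_univ 0)) And.left,
    fun h => Or.inr ⟨h, Finset.mem_image_of_mem f (Finset.mem_univ 0)⟩⟩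

lemma pr_f (i : Fin (m + 1)) : pr (f i) = pr (f 0) :=
  (ctrMk_eq_iff H.chain _ _).2 (Or.inr ⟨Finset.mem_image_of_mem f (Finset.mem_univ i),
    Finset.mem_image_of_mem f (Finset.mem_univ 0)⟩)

/-- A row of the contracted matrix, computed upstairs. -/
lemma ctr_mulVec (z : DualGr.CtrVert ends (univ.image e) → ℤ) (a : V) :
    (ctrMat ends β e).mulVec z (pr a) =
      (∑ x ∈ univ.filter (fun x => pr x = pr a), ∑ b ∈ univ.filter (fun b => pr b ≠ pr a),
          z (pr b) * (LabGraph.edgeMult ends x b : ℤ)) +
        ctrMat ends β e (pr a) (pr a) * z (pr a) := by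
  rw [← sum_edgeMult_ctr ends (univ.image e) (pr a) z, Matrix.mulVec, dotProduct,
    ← Finset.add_sum_erase _ _ (Finset.mem_univ (pr a)), add_comm]
  congr 1
  refine Finset.sum_congr rfl fun c hc => ?_
  show LabGraph.mfMatrix _ _ _ c * z c = _
  simp only [LabGraph.mfMatrix, if_neg (Finset.ne_of_mem_erase hc).symm, mul_comm]

lemma ctr_mulVec_off {a : V} (ha : ¬ onChain f a) (z : DualGr.CtrVert ends (univ.image e) → ℤ) :
    (ctrMat ends β e).mulVec z (pr a) = (α).mulVec (z ∘ pr) a := by
  classical
  have hrest : ∀ g : V → ℤ, ∑ b ∈ univ.filter (fun b => pr b ≠ pr a),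
      g b * (LabGraph.edgeMult ends a b : ℤ) = ∑ b ∈ univ.erase a, g b * (LabGraph.edgeMult ends a b : ℤ) := by
    intro g
    refine Finset.sum_congr ?_ fun b _ => rfl
    ext b
    simp only [Finset.mem_filter, Finset.mem_univ, true_and, Finset.mem_erase, and_true, ne_eq,
      ctrMk_eq_iff H.chain]
    tauto
  rw [H.ctr_mulVec, H.filter_pr_off ha, Finset.sum_singleton, hrest (fun b => z (pr b))]
  have hd : ctrMat ends β e (pr a) (pr a) = α a a := by
    apply mul_right_cancel₀ (H.mult a).1.ne'
    have h1 := mfMatrix_diag_mul _ _ H.isMult (pr a)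
    rw [ctrFn_apply H.chain H.const, sum_edgeMult_ctr] at h1
    simp only [ctrFn_apply H.chain H.const, H.filter_pr_off ha, Finset.sum_singleton] at h1
    rw [mfMatrix_diag_mul ends β H.mult a, ← hrest β]
    exact h1
  rw [hd, Matrix.mulVec, dotProduct, ← Finset.add_sum_erase _ _ (Finset.mem_univ a), add_comm]
  congr 1
  refine Finset.sum_congr rfl fun b hb => ?_
  rw [LabGraph.mfMatrix, if_neg (Finset.ne_of_mem_erase hb).symm, mul_comm]
  rfl

lemma sum_outSum (g : V → ℤ) :
    ∑ i, H.outSum i g = H.outSum 0 g + H.outSum (Fin.last m) g := by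
  have hm := H.pos
  have h0 : (0 : Fin (m + 1)) ≠ Fin.last m := Fin.ne_of_val_ne (by simp; omega)
  rw [← Finset.sum_pair (f := fun i => H.outSum i g) h0]
  refine (Finset.sum_subset (Finset.subset_univ _) fun i _ hi => ?_).symm
  simp only [Finset.mem_insert, Finset.mem_singleton, not_or] at hi
  exact H.outSum_interior (Nat.pos_of_ne_zero fun h => hi.1 (Fin.ext h))
    (lt_of_le_of_ne (Nat.lt_succ_iff.1 i.2) fun h => hi.2 (Fin.ext h)) g

lemma ctr_mulVec_chain (z : DualGr.CtrVert ends (univ.image e) → ℤ) :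
    (ctrMat ends β e).mulVec z (pr (f 0)) =
      H.outSum 0 (z ∘ pr) + H.outSum (Fin.last m) (z ∘ pr) - 2 * z (pr (f 0)) := by
  classical
  have hsum : ∀ g : V → ℤ, (∑ x ∈ univ.filter (fun x => pr x = pr (f 0)),
      ∑ b ∈ univ.filter (fun b => pr b ≠ pr (f 0)), g b * (LabGraph.edgeMult ends x b : ℤ)) =
      H.outSum 0 g + H.outSum (Fin.last m) g := by
    intro g
    rw [← H.sum_outSum, H.filter_pr_chain, Finset.sum_image (fun a _ b _ h => H.chain.1 h)]
    refine Finset.sum_congr rfl fun i _ => Finset.sum_congr ?_ fun b _ => mul_comm _ _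
    ext b
    simp only [Finset.mem_filter, Finset.mem_univ, true_and, ne_eq]
    have h := Finset.ext_iff.1 H.filter_pr_chain b
    simp only [Finset.mem_filter, Finset.mem_univ, true_and] at h
    exact not_congr h
  have hd : ctrMat ends β e (pr (f 0)) (pr (f 0)) = -2 := by
    apply mul_right_cancel₀ (H.mult (f 0)).1.ne'
    have h1 := mfMatrix_diag_mul _ _ H.isMult (pr (f 0))
    rw [ctrFn_apply H.chain H.const, sum_edgeMult_ctr] at h1
    simp only [ctrFn_apply H.chain H.const] at h1
    rw [hsum β, H.outSum_beta, H.outSum_beta, if_neg (by simp), if_neg (by simp)] at h1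
    rw [show ctrMat ends β e (pr (f 0)) (pr (f 0)) * β (f 0) = -((m : ℤ) + m) from h1, H.val]
    ring
  rw [H.ctr_mulVec, hd, hsum (fun b => z (pr b))]
  show H.outSum 0 (z ∘ pr) + H.outSum (Fin.last m) (z ∘ pr) + -2 * z (pr (f 0)) = _
  ring

/-- The row at a chain vertex of a function constant on the classes. -/
lemma row_comp (z : DualGr.CtrVert ends (univ.image e) → ℤ) (i : Fin (m + 1)) :
    (α).mulVec (z ∘ pr) (f i) = H.outSum i (z ∘ pr) -
      (if 0 < i.val ∧ i.val < m then 0 else z (pr (f 0))) := by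
  rw [H.row]
  simp only [Function.comp_apply, H.pr_f, dite_eq_ite]
  have := H.pos
  split_ifs <;> omega

lemma liftAt_apply (x : DualGr.CtrVert ends (univ.image e) → ℤ) (a : V) :
    LabGraph.liftAt ends (univ.image e) (f 0) x a =
      if onChain f a ∧ a ≠ f 0 then 0 else x (pr a) := by
  rw [LabGraph.liftAt]
  refine if_congr (and_congr_left fun _ => ?_) rfl rfl
  have h := Finset.ext_iff.1 H.filter_pr_chain a
  simp only [Finset.mem_filter, Finset.mem_univ, true_and] at h
  exact h

lemma single_of_off {a : V} (ha : ¬ onChain f a) (i : Fin (m + 1)) :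
    (Pi.single (f i) (1 : ℤ) : V → ℤ) a = 0 :=
  Pi.single_eq_of_ne (fun (h : a = f i) => ha (h ▸ Finset.mem_image_of_mem f (Finset.mem_univ i))) _

/-- The lift of an image is an image. -/
lemma lift_mem_range (z : DualGr.CtrVert ends (univ.image e) → ℤ) :
    LabGraph.liftAt ends (univ.image e) (f 0) ((ctrMat ends β e).mulVec z) ∈
      LinearMap.range (Matrix.mulVecLin (α)) := by
  classical
  obtain ⟨r, hrv, hr⟩ := H.exists_ramp
  set d : ℤ := H.outSum (Fin.last m) (z ∘ pr) - z (pr (f 0)) with hd
  refine ⟨z ∘ pr + d • r, funext fun a => ?_⟩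
  rw [Matrix.mulVecLin_apply, Matrix.mulVec_add, Matrix.mulVec_smul, hr, Pi.add_apply, Pi.smul_apply,
    Pi.sub_apply, H.liftAt_apply]
  by_cases ha : onChain f a
  · obtain ⟨i, -, rfl⟩ := Finset.mem_image.1 ha
    rw [H.row_comp, Pi.single_apply, Pi.single_apply]
    simp only [H.chain.1.eq_iff, ne_eq, Finset.mem_image_of_mem f (Finset.mem_univ i), true_and,
      smul_eq_mul]
    have hm := H.pos
    rcases Nat.eq_zero_or_pos i.val with h0 | h0
    · obtain rfl : i = 0 := Fin.ext h0
      rw [if_neg (by simp), if_pos rfl, if_neg (Fin.ne_of_val_ne (by simp; omega)),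
        if_neg (by simp), H.ctr_mulVec_chain, hd]
      ring
    · have hi0 : i ≠ 0 := fun h => by subst h; simp at h0
      rw [if_neg hi0, if_pos hi0]
      rcases Nat.lt_or_ge i.val m with h1 | h1
      · rw [if_pos ⟨h0, h1⟩, if_neg (Fin.ne_of_val_ne (by simp; omega)), H.outSum_interior h0 h1]
        ring
      · obtain rfl : i = Fin.last m := Fin.ext (by simp; omega)
        rw [if_neg (by simp), if_pos rfl, hd]
        ring
  · rw [if_neg (fun h => ha h.1), H.ctr_mulVec_off ha, H.single_of_off ha, H.single_of_off ha]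
    simp

/-- A vector whose lift is an image is an image. -/
lemma mem_range_of_lift (x : DualGr.CtrVert ends (univ.image e) → ℤ)
    (hx : LabGraph.liftAt ends (univ.image e) (f 0) x ∈ LinearMap.range (Matrix.mulVecLin (α))) :
    x ∈ LinearMap.range (Matrix.mulVecLin (ctrMat ends β e)) := by
  classical
  obtain ⟨r, hrv, hr⟩ := H.exists_ramp
  obtain ⟨y, hy⟩ := hx
  rw [Matrix.mulVecLin_apply] at hy
  have hm := H.pos
  have heq : ∀ i : Fin (m + 1), 0 < i.val → (α).mulVec y (f i) = 0 := by
    intro i hi
    rw [hy, H.liftAt_apply, if_pos]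
    exact ⟨Finset.mem_image_of_mem f (Finset.mem_univ i), fun h => by
      rw [H.chain.1 h] at hi
      simp at hi⟩
  -- `y` is linear along the chain
  set d : ℤ := y (f ⟨1, by omega⟩) - y (f 0) with hd
  have hlin : ∀ n (hn : n < m + 1), y (f ⟨n, hn⟩) = y (f 0) + n * d := by
    intro n
    induction n using Nat.strong_induction_on with
    | _ n ih =>
      intro hn
      rcases n with _ | _ | n
      · simp
      · rw [hd]; push_cast; ring
      · have h1 := heq ⟨n + 1, by omega⟩ (by simp)
        rw [H.row, H.outSum_interior (by simp) (show n + 1 < m by omega), dif_pos (by simp),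
          dif_pos (show n + 1 < m by omega), ih (n + 1) (by omega) (by omega)] at h1
        simp only [Nat.add_sub_cancel] at h1
        rw [ih n (by omega) (by omega)] at h1
        push_cast at h1 ⊢
        linarith
  set y' : V → ℤ := y - d • r with hy'
  have hconst : ∀ i, y' (f i) = y (f 0) := by
    intro i
    simp only [hy', Pi.sub_apply, Pi.smul_apply, smul_eq_mul, hrv]
    rw [show f i = f ⟨i.val, i.2⟩ from rfl, hlin]
    ring
  let z : DualGr.CtrVert ends (univ.image e) → ℤ :=
    fun c => y' (Function.surjInv (DualGr.ctrMk_surjective ends (univ.image e)) c)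
  have hz : z ∘ pr = y' := by
    funext a
    show y' (Function.surjInv (DualGr.ctrMk_surjective ends (univ.image e)) (pr a)) = y' a
    rcases (ctrMk_eq_iff H.chain _ a).1
      (Function.surjInv_eq (DualGr.ctrMk_surjective ends (univ.image e)) (pr a)) with h | ⟨h1, h2⟩
    · rw [h]
    · obtain ⟨i, -, hi⟩ := Finset.mem_image.1 h1
      obtain ⟨j, -, hj⟩ := Finset.mem_image.1 h2
      rw [← hi, ← hj, hconst, hconst]
  have hαy' : (α).mulVec y' =
      LabGraph.liftAt ends (univ.image e) (f 0) x - d • (Pi.single (f 0) 1 - Pi.single (f (Fin.last m)) 1) := by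
    rw [hy', Matrix.mulVec_sub, Matrix.mulVec_smul, hr, hy]
  refine ⟨z, funext fun c => ?_⟩
  obtain ⟨a, rfl⟩ := DualGr.ctrMk_surjective ends (univ.image e) c
  rw [Matrix.mulVecLin_apply]
  by_cases ha : onChain f a
  · obtain ⟨i, -, rfl⟩ := Finset.mem_image.1 ha
    have hlast : f (Fin.last m) ≠ f 0 := fun h => by
      have := congrArg Fin.val (H.chain.1 h)
      simp at this; omega
    have e0 := congrFun hαy' (f 0)
    have em := congrFun hαy' (f (Fin.last m))
    rw [← hz, H.row_comp, if_neg (by simp), Pi.sub_apply, H.liftAt_apply, if_neg (by simp),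
      Pi.smul_apply, Pi.sub_apply, Pi.single_eq_same, Pi.single_eq_of_ne hlast.symm] at e0
    rw [← hz, H.row_comp, if_neg (by simp), Pi.sub_apply, H.liftAt_apply,
      if_pos ⟨Finset.mem_image_of_mem f (Finset.mem_univ _), hlast⟩,
      Pi.smul_apply, Pi.sub_apply, Pi.single_eq_same, Pi.single_eq_of_ne hlast] at em
    rw [H.pr_f, H.ctr_mulVec_chain]
    simp only [smul_eq_mul] at e0 em
    linarith
  · have e := congrFun hαy' a
    rw [← hz, ← H.ctr_mulVec_off ha, Pi.sub_apply, H.liftAt_apply, if_neg (fun h => ha h.1),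
      Pi.smul_apply, Pi.sub_apply, H.single_of_off ha, H.single_of_off ha] at e
    simpa using e

lemma betaHom_lift (x : DualGr.CtrVert ends (univ.image e) → ℤ) :
    LabGraph.betaHom β (LabGraph.liftAt ends (univ.image e) (f 0) x) =
      LabGraph.betaHom (LabGraph.ctrFn ends (univ.image e) β) x := by
  classical
  simp only [LabGraph.betaHom, Fintype.linearCombination_apply, smul_eq_mul, H.liftAt_apply]
  rw [← Finset.sum_fiberwise univ (fun a => pr a)]
  refine Finset.sum_congr rfl fun c _ => ?_
  obtain ⟨a, rfl⟩ := DualGr.ctrMk_surjective ends (univ.image e) c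
  rw [ctrFn_apply H.chain H.const]
  by_cases ha : onChain f a
  · obtain ⟨i, -, rfl⟩ := Finset.mem_image.1 ha
    rw [H.pr_f, H.filter_pr_chain, Finset.sum_image (fun a _ b _ h => H.chain.1 h),
      Finset.sum_eq_single 0, H.const i 0]
    · simp
    · intro j _ hj
      rw [if_pos ⟨Finset.mem_image_of_mem f (Finset.mem_univ j), fun h => hj (H.chain.1 h)⟩, zero_mul]
    · simp
  · rw [H.filter_pr_off ha, Finset.sum_singleton, if_neg fun h => ha h.1]

lemma single_apply_chain (i j : Fin (m + 1)) :
    (α).mulVec (Pi.single (f j) 1) (f i) = α (f i) (f j) := by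
  rw [Matrix.mulVec_single_one]; rfl

/-- The lift is surjective modulo the image of the matrix. -/
lemma exists_reduce (y : V → ℤ) : ∃ w, ∀ i : Fin (m + 1), 0 < i.val → (y + (α).mulVec w) (f i) = 0 := by
  classical
  suffices h : ∀ n, n ≤ m → ∃ w, ∀ i : Fin (m + 1), m - n < i.val → (y + (α).mulVec w) (f i) = 0 by
    obtain ⟨w, hw⟩ := h m le_rfl
    exact ⟨w, fun i hi => hw i (by omega)⟩
  intro n
  induction n with
  | zero => exact fun _ => ⟨0, fun i hi => absurd hi (by have := i.2; omega)⟩
  | succ n ih =>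
    intro hn
    obtain ⟨w, hw⟩ := ih (by omega)
    let k : Fin (m + 1) := ⟨m - n, by omega⟩
    let k' : Fin (m + 1) := ⟨m - n - 1, by omega⟩
    refine ⟨w + (-((y + (α).mulVec w) (f k))) • Pi.single (f k') 1, fun i hi => ?_⟩
    rw [Matrix.mulVec_add, Matrix.mulVec_smul, Pi.add_apply, Pi.add_apply, Pi.smul_apply,
      H.single_apply_chain, H.entry, smul_eq_mul, ← add_assoc, ← Pi.add_apply]
    rcases eq_or_ne i k with rfl | hik
    · rw [if_neg (Fin.ne_of_val_ne (by simp [k, k']; omega)), if_pos (by simp [k, k']; omega),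
        if_neg (by simp [k, k']; omega)]
      ring
    · have hik' : i.val ≠ m - n := fun h => hik (Fin.ext h)
      rw [hw i (by omega), if_neg (Fin.ne_of_val_ne (by simp [k']; omega)),
        if_neg (by simp [k']; omega), if_neg (by simp [k']; omega)]
      ring

end TwoChain

end TreeLib
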