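import Groth.Agent.TreeLib.MatrixTree
import Mathlib.LinearAlgebra.Matrix.SchurComplement
import Mathlib.LinearAlgebra.FreeModule.Finite.CardQuotient
import Mathlib.RingTheory.PrincipalIdealDomain
import Mathlib.Algebra.GCDMonoid.Finset

/-! The order of the component group of a multigraph with a multiplicity function. -/

noncomputable section

open Finset Matrix

namespace TreeLib

universe u

variable {V E : Type u} [Fintype V] [Fintype E] [DecidableEq V] [DecidableEq E] (ends : E → V × V)
  (β : V → ℤ)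

omit [Fintype V] [DecidableEq E] in
lemma edgeMult_comm (v w : V) : LabGraph.edgeMult ends v w = LabGraph.edgeMult ends w v := by
  simp only [LabGraph.edgeMult, or_comm]

omit [DecidableEq E] in
lemma mfMatrix_symm (v w : V) : LabGraph.mfMatrix ends β v w = LabGraph.mfMatrix ends β w v := by
  by_cases h : v = w
  · subst h; rfl
  · simp [LabGraph.mfMatrix, h, Ne.symm h, edgeMult_comm ends v w]

omit [DecidableEq E] in
lemma mfMatrix_diag_mul (hβ : LabGraph.IsMultFn ends β) (v : V) :
    LabGraph.mfMatrix ends β v v * β v =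
      -(∑ u ∈ univ.erase v, β u * (LabGraph.edgeMult ends v u : ℤ)) := by
  rw [LabGraph.mfMatrix, if_pos rfl, Int.ediv_mul_cancel]
  exact dvd_neg.2 (hβ v).2

omit [DecidableEq E] in
lemma mulVec_beta (hβ : LabGraph.IsMultFn ends β) : (LabGraph.mfMatrix ends β).mulVec β = 0 := by
  ext v
  rw [Matrix.mulVec, dotProduct, ← Finset.add_sum_erase _ _ (Finset.mem_univ v),
    mfMatrix_diag_mul ends β hβ v, Pi.zero_apply]
  rw [neg_add_eq_zero]
  refine Finset.sum_congr rfl fun u hu => ?_
  rw [LabGraph.mfMatrix, if_neg (Finset.ne_of_mem_erase hu).symm, mul_comm]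

omit [DecidableEq E] in
lemma dot_mulVec_mfMatrix (hβ : LabGraph.IsMultFn ends β) (y : V → ℤ) :
    β ⬝ᵥ (LabGraph.mfMatrix ends β).mulVec y = 0 := by
  have hT : (LabGraph.mfMatrix ends β)ᵀ = LabGraph.mfMatrix ends β :=
    Matrix.ext fun i j => mfMatrix_symm ends β j i
  rw [Matrix.dotProduct_mulVec, ← Matrix.mulVec_transpose, hT, mulVec_beta ends β hβ, zero_dotProduct]

/-- The weights of the edges. -/
def wt : E → ℤ := fun e => β (ends e).1 * β (ends e).2

lemma laplacian_eq (hβ : LabGraph.IsMultFn ends β) :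
    inc ends ℤ * Matrix.diagonal (wt ends β) * (inc ends ℤ)ᵀ =
      Matrix.of fun a b => -(β a * LabGraph.mfMatrix ends β a b * β b) := by
  set L := inc ends ℤ * Matrix.diagonal (wt ends β) * (inc ends ℤ)ᵀ
  have hL : ∀ a b, L a b = ∑ e, inc ends ℤ a e * wt ends β e * inc ends ℤ b e := by
    intro a b
    simp [L, Matrix.mul_apply, Matrix.diagonal, mul_ite, Finset.sum_ite_eq']
  have hoff : ∀ a b, a ≠ b → L a b = -(β a * LabGraph.mfMatrix ends β a b * β b) := by
    intro a b hab
    rw [hL, LabGraph.mfMatrix, if_neg hab, LabGraph.edgeMult, Finset.card_filter, Nat.cast_sum,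
      Finset.mul_sum, Finset.sum_mul, ← Finset.sum_neg_distrib]
    refine Finset.sum_congr rfl fun e _ => ?_
    rcases he : ends e with ⟨x, y⟩
    simp only [inc, wt, he, Prod.mk.injEq]
    by_cases h1 : x = a <;> by_cases h2 : y = b <;> by_cases h3 : x = b <;> by_cases h4 : y = a <;>
      subst_vars <;> simp_all [mul_comm]
  have hsum : ∀ a, ∑ b, L a b = 0 := by
    intro a
    simp only [hL]
    rw [Finset.sum_comm]
    refine Finset.sum_eq_zero fun e _ => ?_
    rw [← Finset.mul_sum, sum_inc]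
    simp
  ext a b
  rw [Matrix.of_apply]
  by_cases hab : a = b
  · subst hab
    have h := hsum a
    rw [← Finset.add_sum_erase _ _ (Finset.mem_univ a),
      Finset.sum_congr rfl fun b hb => hoff a b (Finset.ne_of_mem_erase hb).symm] at h
    have h2 : ∑ b ∈ univ.erase a, -(β a * LabGraph.mfMatrix ends β a b * β b) =
        -(β a * ∑ u ∈ univ.erase a, β u * (LabGraph.edgeMult ends a u : ℤ)) := by
      rw [Finset.mul_sum, ← Finset.sum_neg_distrib]
      refine Finset.sum_congr rfl fun u hu => ?_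
      rw [LabGraph.mfMatrix, if_neg (Finset.ne_of_mem_erase hu).symm]
      ring
    have h3 := mfMatrix_diag_mul ends β hβ a
    rw [h2] at h
    linear_combination h + β a * h3
  · exact hoff a b hab

/-- The principal minor of the matrix, without the row and column of `r`. -/
abbrev minor (r : V) : Matrix {v // v ≠ r} {v // v ≠ r} ℤ :=
  (LabGraph.mfMatrix ends β).submatrix Subtype.val Subtype.val

open Classical in
lemma natAbs_minor (hβ : LabGraph.IsMultFn ends β) (r : V) :
    ((minor ends β r).det.natAbs : ℤ) * ∏ v : {v // v ≠ r}, β v ^ 2 =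
      ∑ T ∈ (univ : Finset E).powerset.filter (fun T => DualGr.IsTree (V := V) (sub ends T)),
        ∏ v, β v ^ LabGraph.nbrCount ends T v := by
  have h := det_incRed ends r (wt ends β)
  replace h := h.trans (Finset.sum_congr rfl fun T hT =>
    prod_weight ends (T := T) (Finset.mem_filter.1 hT).2.2 β)
  have hmat : incRed ends r * Matrix.diagonal (wt ends β) * (incRed ends r)ᵀ =
      (inc ends ℤ * Matrix.diagonal (wt ends β) * (inc ends ℤ)ᵀ).submatrix Subtype.val Subtype.val := by
    ext a b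
    simp [Matrix.mul_apply, Matrix.diagonal]
  have hmat' : (Matrix.of fun a b => -(β a * LabGraph.mfMatrix ends β a b * β b) : Matrix V V ℤ).submatrix
      (Subtype.val : {v // v ≠ r} → V) Subtype.val =
      -(Matrix.diagonal (fun v : {v // v ≠ r} => β v) * minor ends β r *
        Matrix.diagonal (fun v : {v // v ≠ r} => β v)) := by
    ext a b
    simp
  rw [hmat, laplacian_eq ends β hβ, hmat', Matrix.det_neg, Matrix.det_mul, Matrix.det_mul,
    Matrix.det_diagonal] at h
  have hpos : (0 : ℤ) ≤ ∑ T ∈ (univ : Finset E).powerset.filter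
      (fun T => DualGr.IsTree (V := V) (sub ends T)), ∏ v, β v ^ LabGraph.nbrCount ends T v :=
    Finset.sum_nonneg fun T _ => Finset.prod_nonneg fun v _ => pow_nonneg (hβ v).1.le _
  have hp : (0 : ℤ) ≤ ∏ v : {v // v ≠ r}, β v ^ 2 := Finset.prod_nonneg fun v _ => sq_nonneg _
  rw [← abs_of_nonneg hpos, ← h, abs_mul, abs_pow, abs_neg, abs_one, one_pow, one_mul,
    abs_mul, abs_mul, Finset.prod_pow, Int.natCast_natAbs]
  rw [← sq_abs (∏ v : {v // v ≠ r}, β v)]
  ring

lemma minor_det_ne_zero (hβ : LabGraph.IsMultFn ends β) (hG : LabGraph.Connected ends) (r : V) :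
    (minor ends β r).det ≠ 0 := by
  classical
  intro h
  have h1 := natAbs_minor ends β hβ r
  rw [h, Int.natAbs_zero, Nat.cast_zero, zero_mul] at h1
  obtain ⟨T, -, hT⟩ := exists_spanningTree ends univ (connected_univ ends hG)
  have h2 := (Finset.sum_eq_zero_iff_of_nonneg fun T _ =>
    Finset.prod_nonneg fun v _ => pow_nonneg (hβ v).1.le _).1 h1.symm T
    (Finset.mem_filter.2 ⟨Finset.mem_powerset.2 (Finset.subset_univ _), hT⟩)
  exact (Finset.prod_pos fun v _ => pow_pos (hβ v).1 _).ne' h2

lemma det_of_dot {M : Matrix V V ℤ} {b u : V → ℤ} (hM : M.mulVec b = u) (hM' : Mᵀ.mulVec b = u)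
    (hub : b ⬝ᵥ u = 1) (r : V) :
    b r ^ 2 * M.det =
      ((M.submatrix (Subtype.val : {v // v ≠ r} → V) Subtype.val) -
        Matrix.vecMulVec (fun v : {v // v ≠ r} => u v.1) (fun v : {v // v ≠ r} => u v.1)).det := by
  classical
  let P : Matrix V V ℤ := (1 : Matrix V V ℤ).updateCol r b
  have hP : P.det = b r := by
    show Matrix.cramer (1 : Matrix V V ℤ) b r = b r
    rw [Matrix.cramer_one]
    rfl
  have hval : b r ^ 2 * M.det = (Pᵀ * M * P).det := by
    rw [Matrix.det_mul, Matrix.det_mul, Matrix.det_transpose, hP]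
    ring
  let e : ({v // v = r} ⊕ {v // v ≠ r}) ≃ V := Equiv.sumCompl (fun v => v = r)
  have hcol : ∀ (a : V), (M * P) a r = u a := by
    intro a
    rw [Matrix.mul_apply, ← congrFun hM a]
    simp [P, Matrix.mulVec, dotProduct]
  have hcol' : ∀ (a v : V), v ≠ r → (M * P) a v = M a v := by
    intro a v hv
    rw [Matrix.mul_apply]
    simp [P, Matrix.updateCol_apply, hv, Matrix.one_apply]
  have hrow : ∀ v, v ≠ r → (Pᵀ * M * P) r v = u v := by
    intro v hv
    rw [Matrix.mul_assoc, Matrix.mul_apply, ← congrFun hM' v]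
    simp only [Matrix.transpose_apply, Matrix.mulVec, dotProduct]
    refine Finset.sum_congr rfl fun a _ => ?_
    rw [hcol' a v hv]
    simp [P, mul_comm]
  have hrr : (Pᵀ * M * P) r r = 1 := by
    rw [Matrix.mul_assoc, Matrix.mul_apply, ← hub, dotProduct]
    refine Finset.sum_congr rfl fun a _ => ?_
    rw [hcol]
    simp [P]
  have hrest : ∀ a v, a ≠ r → (Pᵀ * M * P) a v = (M * P) a v := by
    intro a v ha
    rw [Matrix.mul_assoc, Matrix.mul_apply]
    simp [P, Matrix.updateCol_apply, ha, Matrix.one_apply]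
  rw [hval, ← Matrix.det_submatrix_equiv_self e]
  rw [← Matrix.fromBlocks_toBlocks ((Pᵀ * M * P).submatrix e e)]
  have h11 : ((Pᵀ * M * P).submatrix e e).toBlocks₁₁ = 1 := by
    ext ⟨a, ha⟩ ⟨c, hc⟩
    subst ha hc
    simpa [Matrix.toBlocks₁₁, e] using hrr
  rw [h11, Matrix.det_fromBlocks_one₁₁]
  congr 1
  ext ⟨a, ha⟩ ⟨c, hc⟩
  rw [Matrix.sub_apply, Matrix.mul_apply, Fintype.sum_unique]
  simp only [Matrix.toBlocks₂₂, Matrix.toBlocks₂₁, Matrix.toBlocks₁₂, Matrix.sub_apply,
    Matrix.submatrix_apply, Matrix.of_apply, Matrix.vecMulVec_apply, e,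
    Equiv.sumCompl_apply_inr, Equiv.sumCompl_apply_inl]
  rw [(default : {v // v = r}).2, hrest a c ha, hcol' a c hc, hrow c hc, hrest a r ha, hcol]

open Classical in
theorem card_compGrp (hβ : LabGraph.IsMultFn ends β) (hG : LabGraph.Connected ends) :
    (Nat.card (LabGraph.CompGrp ends β) : ℤ) * ∏ v, β v ^ 2 =
      (univ.gcd β) ^ 2 *
        ∑ T ∈ (univ : Finset E).powerset.filter (fun T => DualGr.IsTree (V := V) (sub ends T)),
          ∏ v, β v ^ LabGraph.nbrCount ends T v := by
  obtain ⟨r⟩ := hG.1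
  set g := (univ : Finset V).gcd β
  have hg : g ≠ 0 := fun h => (hβ r).1.ne' (Finset.gcd_eq_zero_iff.1 h r (Finset.mem_univ r))
  have hdvd : ∀ v, g ∣ β v := fun v => Finset.gcd_dvd (Finset.mem_univ v)
  choose b hb using hdvd
  obtain ⟨u, hu⟩ := Finset.gcd_eq_sum_mul (univ : Finset V) β
  have hbeta : β = g • b := funext fun v => hb v
  have hbu : b ⬝ᵥ u = 1 := by
    refine mul_left_cancel₀ hg ?_
    rw [mul_one, dotProduct, Finset.mul_sum]
    refine Eq.trans (Finset.sum_congr rfl fun v _ => ?_) hu.symm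
    rw [hb v, mul_assoc]
  set A := LabGraph.mfMatrix ends β
  have hAb : A.mulVec b = 0 := by
    have h := mulVec_beta ends β hβ
    rw [hbeta, Matrix.mulVec_smul, smul_eq_zero] at h
    rw [← hbeta] at h
    exact h.resolve_left hg
  let M : Matrix V V ℤ := A + Matrix.vecMulVec u u
  have hM : M.mulVec b = u := by
    rw [Matrix.add_mulVec, hAb, zero_add, Matrix.vecMulVec_mulVec, dotProduct_comm, hbu]
    simp
  have hMT : Mᵀ = M := by
    ext i j
    simp [M, Matrix.vecMulVec_apply, mul_comm, mfMatrix_symm ends β i j, A]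
  have hdet : b r ^ 2 * M.det = (minor ends β r).det := by
    rw [det_of_dot hM (by rw [hMT]; exact hM) hbu r]
    congr 1
    ext i j
    simp [M, Matrix.vecMulVec_apply, A]
  have hne : M.det ≠ 0 := fun h => minor_det_ne_zero ends β hβ hG r (by rw [← hdet, h, mul_zero])
  have hinj : Function.Injective (Matrix.mulVecLin M) := fun x y h => sub_eq_zero.1
    (Matrix.eq_zero_of_mulVec_eq_zero hne (by simpa [Matrix.mulVec_sub, sub_eq_zero] using h))
  have hker : ∀ x : V → ℤ, x ∈ LinearMap.ker (LabGraph.betaHom β) ↔ b ⬝ᵥ x = 0 := by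
    intro x
    have : LabGraph.betaHom β x = g * (b ⬝ᵥ x) := by
      rw [LabGraph.betaHom, Fintype.linearCombination_apply, dotProduct, Finset.mul_sum]
      refine Finset.sum_congr rfl fun v _ => ?_
      rw [hb v, smul_eq_mul]
      ring
    rw [LinearMap.mem_ker, this, mul_eq_zero, or_iff_right hg]
  let p : (V → ℤ) →ₗ[ℤ] LinearMap.ker (LabGraph.betaHom β) :=
    LinearMap.codRestrict _ (LinearMap.id - (dotProductBilin ℤ ℤ b).smulRight u) fun x => by
      rw [hker]
      show b ⬝ᵥ (x - (b ⬝ᵥ x) • u) = 0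
      rw [dotProduct_sub, dotProduct_smul, hbu]
      simp
  let π : (V → ℤ) →ₗ[ℤ] LabGraph.CompGrp ends β := (Submodule.mkQ _).comp p
  have hsurj : Function.Surjective π := by
    intro y
    obtain ⟨⟨z, hz⟩, rfl⟩ := Submodule.mkQ_surjective _ y
    refine ⟨z, congrArg _ (Subtype.ext ?_)⟩
    simp [p, (hker z).1 hz]
  have hrange : LinearMap.ker π = LinearMap.range (Matrix.mulVecLin M) := by
    ext x
    simp only [π, LinearMap.mem_ker, LinearMap.comp_apply, Submodule.mkQ_apply,
      Submodule.Quotient.mk_eq_zero, Submodule.mem_comap, Submodule.coe_subtype,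
      LinearMap.mem_range, Matrix.mulVecLin_apply, p, LinearMap.codRestrict_apply, LinearMap.sub_apply,
      LinearMap.id_apply, LinearMap.smulRight_apply]
    constructor
    · rintro ⟨y, hy⟩
      refine ⟨y + ((b ⬝ᵥ x) - u ⬝ᵥ y) • b, ?_⟩
      rw [Matrix.mulVec_add, Matrix.mulVec_smul, hM, Matrix.add_mulVec, Matrix.vecMulVec_mulVec, hy]
      ext v
      simp [dotProductBilin]
      ring
    · rintro ⟨y, rfl⟩
      refine ⟨y, ?_⟩
      have h1 : b ⬝ᵥ A.mulVec y = 0 := by
        have h := dot_mulVec_mfMatrix ends β hβ y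
        rw [hbeta, smul_dotProduct, smul_eq_zero] at h
        rw [← hbeta] at h
        exact h.resolve_left hg
      show A.mulVec y = M.mulVec y - (b ⬝ᵥ M.mulVec y) • u
      rw [Matrix.add_mulVec, Matrix.vecMulVec_mulVec, op_smul_eq_smul, dotProduct_add, h1,
        dotProduct_smul, hbu, smul_eq_mul, mul_one, zero_add, add_sub_cancel_right]
  have hcard : (Nat.card (LabGraph.CompGrp ends β) : ℤ) = M.det.natAbs := by
    rw [← Nat.card_congr (π.quotKerEquivOfSurjective hsurj).toEquiv, hrange]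
    rw [← Submodule.natAbs_det_equiv (LinearMap.range (Matrix.mulVecLin M))
      (LinearEquiv.ofInjective (Matrix.mulVecLin M) hinj)]
    congr 2
    rw [← LinearMap.det_toMatrix']
    congr 1
    ext i j
    simp [LinearMap.toMatrix'_apply]
  have hsplit : ∏ v, β v ^ 2 = β r ^ 2 * ∏ v : {v // v ≠ r}, β v ^ 2 := by
    rw [← Finset.mul_prod_erase _ _ (Finset.mem_univ r)]
    congr 1
    exact Finset.prod_subtype (univ.erase r) (by simp) fun v => β v ^ 2
  rw [← natAbs_minor ends β hβ r, hsplit, hcard, ← hdet, Int.natAbs_mul, Nat.cast_mul,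
    Int.natAbs_pow, Nat.cast_pow, Int.natCast_natAbs (b r), sq_abs, hb r]
  ring

end TreeLib
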