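import Groth.Agent.TreeLib.CompGrp

/-! Contraction of a chain of connecting edges. -/

noncomputable section

open Finset Matrix

namespace TreeLib

universe u

variable {V E : Type u} [Fintype V] [Fintype E] [DecidableEq V] [DecidableEq E] (ends : E → V × V)

/-- The multiplicity between two classes of a contraction. -/
lemma edgeMult_ctr (D : Finset E) {c c' : DualGr.CtrVert ends D} (h : c ≠ c') :
    LabGraph.edgeMult (DualGr.ctrEnds ends D) c c' =
      ∑ a ∈ univ.filter (fun a => DualGr.ctrMk ends D a = c),
        ∑ b ∈ univ.filter (fun b => DualGr.ctrMk ends D b = c'), LabGraph.edgeMult ends a b := by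
  classical
  simp only [LabGraph.edgeMult, Finset.card_filter]
  rw [Finset.sum_congr rfl fun a _ => Finset.sum_comm, Finset.sum_comm]
  rw [← Finset.sum_add_sum_compl D (fun e => ∑ a ∈ univ.filter (fun a => DualGr.ctrMk ends D a = c),
    ∑ b ∈ univ.filter (fun b => DualGr.ctrMk ends D b = c'),
      if ends e = (a, b) ∨ ends e = (b, a) then 1 else 0)]
  rw [Finset.sum_eq_zero (s := D) fun e he => ?_, zero_add]
  · rw [Finset.sum_subtype Dᶜ (p := fun e => e ∉ D) (by simp)]
    refine Finset.sum_congr rfl fun e _ => ?_
    rcases hE : ends e.1 with ⟨x, y⟩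
    simp only [DualGr.ctrEnds, hE, Prod.mk.injEq, Finset.sum_filter]
    by_cases h1 : DualGr.ctrMk ends D x = c ∧ DualGr.ctrMk ends D y = c'
    · rw [if_pos (Or.inl h1), Finset.sum_eq_single x, if_pos h1.1, Finset.sum_eq_single y, if_pos h1.2]
      · simp
      · intro b _ hb
        split_ifs with hc hd <;> try rfl
        rcases hd with hd | hd
        · exact absurd hd.2.symm hb
        · exact absurd (h1.1.symm.trans (hd.1 ▸ hc)) h
      · simp
      · intro a _ ha
        split_ifs with hc <;> try rfl
        refine Finset.sum_eq_zero fun b _ => ?_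
        split_ifs with hd he <;> try rfl
        rcases he with he | he
        · exact absurd he.1.symm ha
        · exact absurd (hc.symm.trans (he.2 ▸ h1.2)) h
      · simp
    · by_cases h2 : DualGr.ctrMk ends D x = c' ∧ DualGr.ctrMk ends D y = c
      · rw [if_pos (Or.inr h2), Finset.sum_eq_single y, if_pos h2.2, Finset.sum_eq_single x, if_pos h2.1]
        · simp
        · intro b _ hb
          split_ifs with hc hd <;> try rfl
          rcases hd with hd | hd
          · exact absurd (h2.2.symm.trans (hd.2 ▸ hc)) h
          · exact absurd hd.1.symm hb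
        · simp
        · intro a _ ha
          split_ifs with hc <;> try rfl
          refine Finset.sum_eq_zero fun b _ => ?_
          split_ifs with hd he <;> try rfl
          rcases he with he | he
          · exact absurd (hc.symm.trans (he.1 ▸ h2.1)) h
          · exact absurd he.2.symm ha
        · simp
      · rw [if_neg (by tauto)]
        symm
        refine Finset.sum_eq_zero fun a _ => ?_
        split_ifs with hc <;> try rfl
        refine Finset.sum_eq_zero fun b _ => ?_
        split_ifs with hd he <;> try rfl
        rcases he with he | he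
        · exact absurd ⟨he.1 ▸ hc, he.2 ▸ hd⟩ h1
        · exact absurd ⟨he.1 ▸ hd, he.2 ▸ hc⟩ h2
  · refine Finset.sum_eq_zero fun a ha => Finset.sum_eq_zero fun b hb => ?_
    rw [Finset.mem_filter] at ha hb
    rw [if_neg]
    have h' := DualGr.ctrMk_fst_eq_ctrMk_snd ends D he
    rintro (he' | he') <;> rw [he'] at h'
    · exact h (ha.2.symm.trans (h'.trans hb.2))
    · exact h (ha.2.symm.trans (h'.symm.trans hb.2))

/-- Weighted neighbour sums in a contraction. -/
lemma sum_edgeMult_ctr (D : Finset E) (c : DualGr.CtrVert ends D) (g : DualGr.CtrVert ends D → ℤ) :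
    ∑ c' ∈ univ.erase c, g c' * (LabGraph.edgeMult (DualGr.ctrEnds ends D) c c' : ℤ) =
      ∑ a ∈ univ.filter (fun a => DualGr.ctrMk ends D a = c),
        ∑ b ∈ univ.filter (fun b => DualGr.ctrMk ends D b ≠ c),
          g (DualGr.ctrMk ends D b) * (LabGraph.edgeMult ends a b : ℤ) := by
  classical
  have h1 : ∀ a, ∑ b ∈ univ.filter (fun b => DualGr.ctrMk ends D b ≠ c),
      g (DualGr.ctrMk ends D b) * (LabGraph.edgeMult ends a b : ℤ) =
      ∑ c' ∈ univ.erase c, ∑ b ∈ univ.filter (fun b => DualGr.ctrMk ends D b = c'),
        g c' * (LabGraph.edgeMult ends a b : ℤ) := by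
    intro a
    rw [← Finset.sum_fiberwise_of_maps_to (s := univ.filter (fun b => DualGr.ctrMk ends D b ≠ c))
      (t := univ.erase c) (g := fun b => DualGr.ctrMk ends D b)
      (fun b hb => Finset.mem_erase.2 ⟨(Finset.mem_filter.1 hb).2, Finset.mem_univ _⟩)]
    refine Finset.sum_congr rfl fun c' hc' => ?_
    rw [Finset.filter_filter]
    refine Finset.sum_congr ?_ fun b hb => ?_
    · ext b
      simp only [Finset.mem_filter, Finset.mem_univ, true_and]
      exact ⟨fun h => h.2, fun h => ⟨h ▸ Finset.ne_of_mem_erase hc', h⟩⟩
    · rw [(Finset.mem_filter.1 hb).2]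
  simp only [h1]
  rw [Finset.sum_comm]
  refine Finset.sum_congr rfl fun c' hc' => ?_
  rw [edgeMult_ctr ends D (Finset.ne_of_mem_erase hc').symm]
  push_cast
  rw [Finset.mul_sum]
  exact Finset.sum_congr rfl fun a _ => Finset.mul_sum _ _ _

section Chain

variable {k : ℕ} {f : Fin (k + 1) → V} {e : Fin k → E}

/-- The vertices of a chain. -/
abbrev onChain (f : Fin (k + 1) → V) (v : V) : Prop := v ∈ univ.image f

variable {ends}

omit [Fintype V] [Fintype E] [DecidableEq V] [DecidableEq E] in
lemma edge_ends (hC : LabGraph.IsChain ends f e) (i : Fin k) {v w : V}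
    (h : ends (e i) = (v, w)) : (v = f i.castSucc ∧ w = f i.succ) ∨ (v = f i.succ ∧ w = f i.castSucc) := by
  rcases hC.2.2 i with h' | h' <;> rw [h] at h' <;> simp_all

omit [Fintype E] in
/-- The classes of the contraction of a chain. -/
lemma ctrMk_eq_iff (hC : LabGraph.IsChain ends f e) (a b : V) :
    DualGr.ctrMk ends (univ.image e) a = DualGr.ctrMk ends (univ.image e) b ↔
      a = b ∨ (onChain f a ∧ onChain f b) := by
  constructor
  · intro h
    have h' : Relation.EqvGen (DualGr.CtrRel ends (univ.image e)) a b := Quotient.exact h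
    clear h
    induction h' with
    | rel x y hxy =>
      obtain ⟨e', he', hends⟩ := hxy
      obtain ⟨i, -, rfl⟩ := Finset.mem_image.1 he'
      rcases edge_ends hC i hends with ⟨h1, h2⟩ | ⟨h1, h2⟩ <;>
        exact Or.inr ⟨Finset.mem_image.2 ⟨_, Finset.mem_univ _, h1.symm⟩,
          Finset.mem_image.2 ⟨_, Finset.mem_univ _, h2.symm⟩⟩
    | refl x => exact Or.inl rfl
    | symm x y _ ih => exact ih.imp Eq.symm And.symm
    | trans x y z _ _ ih1 ih2 =>
      rcases ih1 with rfl | h1
      · exact ih2
      · rcases ih2 with rfl | h2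
        · exact Or.inr h1
        · exact Or.inr ⟨h1.1, h2.2⟩
  · rintro (rfl | ⟨ha, hb⟩)
    · rfl
    · have key : ∀ j : Fin (k + 1),
          DualGr.ctrMk ends (univ.image e) (f j) = DualGr.ctrMk ends (univ.image e) (f 0) := by
        intro j
        induction j using Fin.induction with
        | zero => rfl
        | succ i ih =>
          have h := DualGr.ctrMk_fst_eq_ctrMk_snd ends (univ.image e)
            (Finset.mem_image_of_mem e (Finset.mem_univ i))
          rcases hC.2.2 i with h' | h' <;> rw [h'] at h
          · exact h.symm.trans ih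
          · exact h.trans ih
      obtain ⟨i, -, rfl⟩ := Finset.mem_image.1 ha
      obtain ⟨j, -, rfl⟩ := Finset.mem_image.1 hb
      rw [key i, key j]

omit [Fintype E] [DecidableEq E] in
/-- A connecting edge of a chain separates it. -/
lemma exists_side (hC : LabGraph.IsChain ends f e) (hconn : ∀ i, LabGraph.IsConnecting ends (e i))
    (q : Fin k) : ∃ T : Finset V, (∀ j : Fin (k + 1), f j ∈ T ↔ q.val < j.val) ∧
      ∀ e', ((ends e').1 ∈ T ↔ (ends e').2 ∈ T) ∨ e' = e q := by
  classical
  obtain ⟨S, hS⟩ := hconn q
  have hsame : ∀ i : Fin k, i ≠ q → (f i.castSucc ∈ S ↔ f i.succ ∈ S) := by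
    intro i hi
    have h := hS (e i)
    have hne : e i ≠ e q := fun h => hi (hC.2.1 h)
    rcases hC.2.2 i with h' | h' <;> rw [h'] at h <;> simp only [hne, iff_false] at h <;> tauto
  have hdiff : ¬ (f q.castSucc ∈ S ↔ f q.succ ∈ S) := by
    have h := (hS (e q)).2 rfl
    rcases hC.2.2 q with h' | h' <;> rw [h'] at h <;> tauto
  have key : ∀ j : Fin (k + 1), f j ∈ S ↔ ((f 0 ∈ S) ↔ j.val ≤ q.val) := by
    intro j
    induction j using Fin.induction with
    | zero => simp
    | succ i ih =>
      rw [Fin.val_castSucc] at ih
      rw [Fin.val_succ]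
      by_cases hi : i = q
      · subst hi
        have h1 : i.val ≤ i.val := le_rfl
        have h2 : ¬ i.val + 1 ≤ i.val := by omega
        simp only [h1, iff_true] at ih
        simp only [h2, iff_false]
        tauto
      · have h3 : i.val ≤ q.val ↔ i.val + 1 ≤ q.val := by
          have : i.val ≠ q.val := fun h => hi (Fin.ext h)
          omega
        rw [← hsame i hi, ih, h3]
  by_cases h0 : f 0 ∈ S
  · refine ⟨Sᶜ, fun j => ?_, fun e' => ?_⟩
    · have := key j
      simp only [h0, true_iff] at this
      rw [Finset.mem_compl, this]; omega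
    · by_cases he : e' = e q
      · exact Or.inr he
      · left
        have h := hS e'
        simp only [he, iff_false] at h
        simp only [Finset.mem_compl]
        tauto
  · refine ⟨S, fun j => ?_, fun e' => ?_⟩
    · have := key j
      simp only [h0, false_iff] at this
      rw [this]; omega
    · by_cases he : e' = e q
      · exact Or.inr he
      · left
        have h := hS e'
        simp only [he, iff_false] at h
        tauto

lemma edgeMult_chain (hC : LabGraph.IsChain ends f e) (hconn : ∀ i, LabGraph.IsConnecting ends (e i))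
    (i j : Fin (k + 1)) (hij : i.val < j.val) :
    LabGraph.edgeMult ends (f i) (f j) = if j.val = i.val + 1 then 1 else 0 := by
  have hcross : ∀ e', ends e' = (f i, f j) ∨ ends e' = (f j, f i) →
      ∀ q : Fin k, i.val ≤ q.val → q.val < j.val → e' = e q := by
    intro e' he q h1 h2
    obtain ⟨T, hT, hT'⟩ := exists_side hC hconn q
    refine (hT' e').resolve_left fun h => ?_
    rcases he with he | he <;> rw [he] at h <;> simp only [hT] at h <;> omega
  split_ifs with h
  · rw [LabGraph.edgeMult, Finset.card_eq_one]
    let q : Fin k := ⟨i.val, by omega⟩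
    have hi : f q.castSucc = f i := congrArg f (Fin.ext rfl)
    have hj : f q.succ = f j := congrArg f (Fin.ext (by simp [q, h]))
    refine ⟨e q, Finset.eq_singleton_iff_unique_mem.2 ⟨?_, fun e' he' => ?_⟩⟩
    · simp only [Finset.mem_filter, Finset.mem_univ, true_and]
      rw [← hi, ← hj]
      exact hC.2.2 q
    · simp only [Finset.mem_filter, Finset.mem_univ, true_and] at he'
      exact hcross e' he' q le_rfl (by simp [q]; omega)
  · rw [LabGraph.edgeMult, Finset.card_eq_zero, Finset.filter_eq_empty_iff]
    intro e' _ he
    let q : Fin k := ⟨i.val, by omega⟩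
    let q' : Fin k := ⟨i.val + 1, by omega⟩
    have := (hcross e' he q le_rfl (by simp [q]; omega)).symm.trans
      (hcross e' he q' (by simp [q']) (by simp [q']; omega))
    exact absurd (congrArg Fin.val (hC.2.1 this)) (by simp [q, q'])

end Chain

end TreeLib
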