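import Groth.Agent.TreeLib.Graph
import Groth.Prelude.Def_W4c2conddiscmodels
import Mathlib.LinearAlgebra.Matrix.Determinant.Basic
import Mathlib.LinearAlgebra.Matrix.NonsingularInverse
import Mathlib.LinearAlgebra.Matrix.ToLinearEquiv

/-! The weighted matrix-tree theorem for finite multigraphs. -/

noncomputable section

open Finset Matrix

namespace TreeLib

universe u

section Binet

variable {R : Type*} [CommRing R] {n E : Type*} [Fintype n] [DecidableEq n] [Fintype E] [DecidableEq E]

/-- Expansion of the determinant of a product of rectangular matrices. -/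
lemma det_mul_expand (A : Matrix n E R) (C : Matrix E n R) :
    (A * C).det = ∑ f : n → E, (∏ i, A i (f i)) * (C.submatrix f id).det := by
  have hrow : A * C = fun i => ∑ e, A i e • C e := by
    ext i j
    simp [Matrix.mul_apply, Finset.sum_apply]
  show Matrix.detRowAlternating (A * C) = _
  rw [hrow]
  erw [(Matrix.detRowAlternating (R := R) (n := n)).toMultilinearMap.map_sum]
  refine Finset.sum_congr rfl fun f _ => ?_
  exact (Matrix.detRowAlternating (R := R) (n := n)).toMultilinearMap.map_smul_univ
    (fun i => A i (f i)) fun i => C (f i)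

/-- The contribution of one column set to `det (A * diag w * Aᵀ)`. -/
lemma sum_perm_eq (A : Matrix n E R) (w : E → R) (g : n → E) :
    ∑ σ : Equiv.Perm n, (∏ i, A i (g (σ i))) * ((Matrix.diagonal w * Aᵀ).submatrix (g ∘ σ) id).det =
      (∏ i, w (g i)) * (A.submatrix id g).det ^ 2 := by
  have h1 : ∀ σ : Equiv.Perm n, ((Matrix.diagonal w * Aᵀ).submatrix (g ∘ σ) id).det =
      (Equiv.Perm.sign σ : R) * ((∏ i, w (g i)) * (A.submatrix id g).det) := by
    intro σ
    rw [show (Matrix.diagonal w * Aᵀ).submatrix (g ∘ σ) id =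
      ((Matrix.diagonal w * Aᵀ).submatrix g id).submatrix σ id from rfl, Matrix.det_permute,
      show (Matrix.diagonal w * Aᵀ).submatrix g id =
        Matrix.diagonal (w ∘ g) * (A.submatrix id g)ᵀ from by
          ext i j; simp [Matrix.diagonal_mul],
      Matrix.det_mul, Matrix.det_diagonal, Matrix.det_transpose]
    rfl
  simp only [h1]
  have h2 : (A.submatrix id g).det =
      ∑ σ : Equiv.Perm n, (Equiv.Perm.sign σ : R) * ∏ i, A i (g (σ i)) := by
    rw [← Matrix.det_transpose, Matrix.det_apply']
    rfl
  trans ((∏ i, w (g i)) * (A.submatrix id g).det) *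
      ∑ σ : Equiv.Perm n, (Equiv.Perm.sign σ : R) * ∏ i, A i (g (σ i))
  · rw [Finset.mul_sum]
    refine Finset.sum_congr rfl fun σ _ => ?_
    ring
  · rw [← h2]; ring

end Binet

variable {V E : Type u} [Fintype V] [Fintype E] [DecidableEq V] [DecidableEq E] (ends : E → V × V)

/-- The incidence matrix without the row of `r`. -/
abbrev incRed (r : V) : Matrix {v // v ≠ r} E ℤ := (inc ends ℤ).submatrix Subtype.val id

lemma det_sub_of_connected (r : V) (T : Finset E) (g : {v // v ≠ r} ≃ T)
    (hT : LabGraph.Connected (sub ends T)) :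
    ((incRed ends r).submatrix id (fun i => (g i : E))).det ^ 2 = 1 := by
  refine Int.isUnit_sq ?_
  rw [← Matrix.isUnit_iff_isUnit_det, ← Matrix.mulVec_surjective_iff_isUnit]
  intro x
  have h : ∀ v, ∃ γ : T → ℤ, (inc (sub ends T) ℤ).mulVec γ = Pi.single v 1 - Pi.single r 1 :=
    fun v => exists_mulVec_eq (sub ends T) hT ℤ v r
  choose γ hγ using h
  refine ⟨(∑ v : {v // v ≠ r}, x v • γ v.1) ∘ g, ?_⟩
  ext a
  have h2 : ((incRed ends r).submatrix id (fun i => (g i : E))).mulVec
      ((∑ v : {v // v ≠ r}, x v • γ v.1) ∘ g) a =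
      (inc (sub ends T) ℤ).mulVec (∑ v : {v // v ≠ r}, x v • γ v.1) a.1 := by
    simp only [Matrix.mulVec, dotProduct]
    exact g.sum_comp fun e : T => inc (sub ends T) ℤ a.1 e * (∑ v : {v // v ≠ r}, x v • γ v.1) e
  rw [h2, Matrix.mulVec_sum, Finset.sum_apply, Finset.sum_eq_single a]
  · rw [Matrix.mulVec_smul, Pi.smul_apply, hγ, Pi.sub_apply, Pi.single_eq_same,
      Pi.single_eq_of_ne a.2, sub_zero, smul_eq_mul, mul_one]
  · intro v _ hv
    rw [Matrix.mulVec_smul, Pi.smul_apply, hγ, Pi.sub_apply,
      Pi.single_eq_of_ne (fun h => hv (Subtype.ext h.symm)), Pi.single_eq_of_ne a.2, sub_zero, smul_zero]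
  · exact fun h => absurd (Finset.mem_univ a) h

lemma det_sub_of_not_connected (r : V) (T : Finset E) (g : {v // v ≠ r} ≃ T)
    (hT : ¬ LabGraph.Connected (sub ends T)) :
    ((incRed ends r).submatrix id (fun i => (g i : E))).det = 0 := by
  have : Nonempty V := ⟨r⟩
  obtain ⟨S, hrS, ⟨s, hs⟩, hcut⟩ := (connected_or_cut (sub ends T) r).resolve_left hT
  rw [← Matrix.exists_vecMul_eq_zero_iff]
  refine ⟨fun v => if v.1 ∈ S then 1 else 0, ?_, ?_⟩
  · intro h
    have := congrFun h ⟨s, fun h' => hrS (h' ▸ hs)⟩
    simp [hs] at this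
  · ext j
    simp only [Matrix.vecMul, dotProduct, Matrix.submatrix_apply, id_eq, ite_mul, one_mul, zero_mul,
      Pi.zero_apply]
    rw [← Finset.sum_subtype (univ.filter fun v => v ≠ r) (p := fun v => v ≠ r) (by simp)
      (fun v => if v ∈ S then inc ends ℤ v (g j : E) else 0)]
    rw [Finset.sum_filter]
    have : ∀ v, (if v ≠ r then (if v ∈ S then inc ends ℤ v (g j : E) else 0) else 0) =
        if v ∈ S then inc ends ℤ v (g j : E) else 0 := by
      intro v
      by_cases hv : v = r
      · subst hv; simp [hrS]
      · simp [hv]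
    simp only [this, Finset.sum_ite_mem, Finset.univ_inter]
    rw [sum_inc, if_congr (hcut (g j)) rfl rfl, sub_self]

open Classical in
/-- The weighted matrix-tree theorem. -/
theorem det_incRed (r : V) (w : E → ℤ) :
    (incRed ends r * Matrix.diagonal w * (incRed ends r)ᵀ).det =
      ∑ T ∈ (univ : Finset E).powerset.filter (fun T => DualGr.IsTree (V := V) (sub ends T)),
        ∏ e ∈ T, w e := by
  classical
  set A := incRed ends r
  rw [Matrix.mul_assoc, det_mul_expand]
  have h0 : ∀ f : {v // v ≠ r} → E, ¬ Function.Injective f →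
      (∏ i, A i (f i)) * ((Matrix.diagonal w * Aᵀ).submatrix f id).det = 0 := by
    intro f hf
    simp only [Function.Injective, not_forall] at hf
    obtain ⟨a, c, hfac, hac⟩ := hf
    rw [Matrix.det_zero_of_row_eq hac (funext fun j => by simp [hfac]), mul_zero]
  rw [← Finset.sum_filter_add_sum_filter_not _ (fun f => Function.Injective f),
    Finset.sum_eq_zero (s := Finset.filter (fun f => ¬ Function.Injective f) univ)
      (fun f hf => h0 f (Finset.mem_filter.1 hf).2), add_zero]
  rw [← Finset.sum_fiberwise_of_maps_to (g := fun f : {v // v ≠ r} → E => univ.image f)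
    (t := (univ : Finset E).powerset) (fun f _ => Finset.mem_powerset.2 (Finset.subset_univ _)),
    Finset.sum_filter (s := (univ : Finset E).powerset)]
  refine Finset.sum_congr rfl fun T _ => ?_
  have hcardV : Fintype.card {v // v ≠ r} + 1 = Fintype.card V := by
    have hpos : 0 < Fintype.card V := Fintype.card_pos_iff.2 ⟨r⟩
    rw [Fintype.card_subtype_compl, Fintype.card_subtype_eq]
    omega
  by_cases hcard : T.card + 1 = Fintype.card V
  · obtain ⟨g⟩ : Nonempty ({v // v ≠ r} ≃ T) :=
      ⟨Fintype.equivOfCardEq (by rw [Fintype.card_coe]; omega)⟩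
    have hfib : Finset.filter (fun f : {v // v ≠ r} → E => univ.image f = T)
        (Finset.filter (fun f => Function.Injective f) univ) =
        (univ : Finset (Equiv.Perm {v // v ≠ r})).image
          fun σ : Equiv.Perm {v // v ≠ r} => (fun i => (g i : E)) ∘ ⇑σ := by
      ext f
      simp only [Finset.mem_filter, Finset.mem_univ, true_and, Finset.mem_image]
      constructor
      · rintro ⟨hf, hT⟩
        have hmem : ∀ i, f i ∈ T := fun i => hT ▸ Finset.mem_image_of_mem f (Finset.mem_univ i)
        let k : {v // v ≠ r} → {v // v ≠ r} := fun i => g.symm ⟨f i, hmem i⟩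
        have hk : Function.Injective k := fun a c h => hf (congrArg Subtype.val (g.symm.injective h))
        refine ⟨Equiv.ofBijective k (Finite.injective_iff_bijective.1 hk), ?_⟩
        ext i
        simp [k]
      · rintro ⟨σ, rfl⟩
        refine ⟨(Subtype.val_injective.comp g.injective).comp σ.injective, ?_⟩
        ext e
        simp only [Finset.mem_image, Finset.mem_univ, true_and, Function.comp_apply]
        refine ⟨?_, fun he => ⟨σ.symm (g.symm ⟨e, he⟩), by simp⟩⟩
        rintro ⟨i, rfl⟩
        exact (g (σ i)).2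
    rw [hfib]
    refine (Finset.sum_image fun (σ : Equiv.Perm {v // v ≠ r}) _ τ _ h => Equiv.ext fun i =>
      g.injective (Subtype.ext (congrFun h i))).trans ?_
    refine (sum_perm_eq A w fun i => (g i : E)).trans ?_
    rw [isSpanningTree_iff]
    by_cases hconn : LabGraph.Connected (sub ends T)
    · rw [if_pos ⟨hconn, hcard⟩, det_sub_of_connected ends r T g hconn, mul_one,
        g.prod_comp (fun e : T => w e.1), Finset.prod_coe_sort T w]
    · rw [if_neg (fun h => hconn h.1), det_sub_of_not_connected ends r T g hconn]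
      simp
  · rw [if_neg (fun h => hcard ((isSpanningTree_iff ends T).1 h).2)]
    refine Finset.sum_eq_zero fun f hf => absurd ?_ hcard
    simp only [Finset.mem_filter, Finset.mem_univ, true_and] at hf
    rw [← hf.2, Finset.card_image_of_injective _ hf.1, Finset.card_univ]
    exact hcardV

omit [Fintype E] [DecidableEq E] in
lemma ne_of_isForest [Fintype E] [DecidableEq E] (hF : DualGr.IsForest ends) (e : E) :
    (ends e).1 ≠ (ends e).2 := by
  intro h
  have := (isForest_iff_injective ends).1 hF
    (a₁ := Pi.single e 1) (a₂ := 0) (by rw [Matrix.mulVecLin_apply, inc_mulVec_single, h]; simp)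
  simpa using congrFun this e

lemma ends_inj_of_isForest (hF : DualGr.IsForest ends) (e e' : E)
    (h : ends e' = ends e ∨ ends e' = ((ends e).2, (ends e).1)) : e = e' := by
  have h2 := (isForest_iff_injective ends).1 hF
    (a₁ := Pi.single e 1) (a₂ := Pi.single e' 1) (by
      rw [Matrix.mulVecLin_apply, Matrix.mulVecLin_apply, inc_mulVec_single, inc_mulVec_single]
      rcases h with h | h <;> rw [h]
      ext v
      simp only [Pi.sub_apply, CharTwo.sub_eq_add, add_comm])
  by_contra hne
  simpa [Pi.single_eq_of_ne hne] using congrFun h2 e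

/-- The product of the weights `β a β b` over a tree. -/
lemma prod_weight {T : Finset E} (hT : DualGr.IsForest (V := V) (sub ends T)) (β : V → ℤ) :
    ∏ e ∈ T, β (ends e).1 * β (ends e).2 = ∏ v, β v ^ LabGraph.nbrCount ends T v := by
  classical
  have hne : ∀ e ∈ T, (ends e).1 ≠ (ends e).2 := fun e he => ne_of_isForest (sub ends T) hT ⟨e, he⟩
  -- neighbours are the same as edge-ends
  have hcount : ∀ v, LabGraph.nbrCount ends T v = (T.filter fun e => (ends e).1 = v ∨ (ends e).2 = v).card := by
    intro v
    symm
    refine Finset.card_bij (fun e _ => if (ends e).1 = v then (ends e).2 else (ends e).1) ?_ ?_ ?_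
    · intro e he
      simp only [Finset.mem_filter] at he
      simp only [Finset.mem_filter, Finset.mem_univ, true_and]
      rcases he.2 with h | h
      · rw [if_pos h]
        exact ⟨fun h' => hne e he.1 (h.trans h'.symm), e, he.1, Or.inl (Prod.ext h rfl)⟩
      · have h1 : (ends e).1 ≠ v := fun h' => hne e he.1 (h'.trans h.symm)
        rw [if_neg h1]
        exact ⟨h1, e, he.1, Or.inr (Prod.ext rfl h)⟩
    · intro e he e' he' heq
      simp only [Finset.mem_filter] at he he'
      have := ends_inj_of_isForest (sub ends T) hT ⟨e, he.1⟩ ⟨e', he'.1⟩ (by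
        have d := hne e he.1
        have d' := hne e' he'.1
        simp only [sub]
        rcases hA : ends e with ⟨a, a'⟩
        rcases hB : ends e' with ⟨c, c'⟩
        rw [hA] at d he heq
        rw [hB] at d' he' heq
        simp only [Prod.mk.injEq] at *
        split_ifs at heq <;> grind)
      exact congrArg Subtype.val this
    · intro x hx
      simp only [Finset.mem_filter, Finset.mem_univ, true_and] at hx
      obtain ⟨hxv, e, heT, he | he⟩ := hx
      · exact ⟨e, Finset.mem_filter.2 ⟨heT, Or.inl (by rw [he])⟩, by simp [he]⟩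
      · exact ⟨e, Finset.mem_filter.2 ⟨heT, Or.inr (by rw [he])⟩, by simp [he, hxv]⟩
  simp only [hcount, Finset.card_filter, ← Finset.prod_pow_eq_pow_sum]
  rw [Finset.prod_comm]
  refine Finset.prod_congr rfl fun e he => ?_
  rw [← Finset.prod_subset (Finset.subset_univ {(ends e).1, (ends e).2}) (fun v _ hv => by
      simp only [Finset.mem_insert, Finset.mem_singleton, not_or] at hv
      rw [if_neg (by tauto), pow_zero]),
    Finset.prod_pair (hne e he)]
  simp

end TreeLib
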